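import Cfsg.Agent.Lib.SpThreeCent.SixEnd.InvLit

/-!
# The endgame: stages

A stage says that the involutions commuting with a given small subgroup of the model and having given classes
after multiplication by its elements lie inside. Stages are checked on numbers.
-/

set_option autoImplicit false

namespace Cfsg.Agent.SpThreeCent.SixEnd

universe u

variable {G : Type u} [Group G]

attribute [local irreducible] clsC mulC codeS commC commF oneC

open Subgroup in
/-- Two involutions: conjugate, or with a central involution and both relations. -/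
theorem dihedral_full [Finite G] {v w : G} (hw : w * w = 1) (hv : v * v = 1) :
    (∃ g ∈ closure ({w, v} : Set G), g * w * g⁻¹ = v) ∨
      ∃ z ∈ closure ({w, v} : Set G), z * z = 1 ∧ z ≠ 1 ∧ z * w = w * z ∧ z * v = v * z ∧
        ∃ g ∈ closure ({w, v} : Set G),
          (g * w * g⁻¹ = z * w ∧ g * v * g⁻¹ = z * v) ∨
            (g * v * g⁻¹ = z * w ∧ g⁻¹ * w * g = z * v) := by
  set r := w * v with hr
  set D := closure ({w, v} : Set G) with hD
  have hwD : w ∈ D := subset_closure (Set.mem_insert _ _)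
  have hvD : v ∈ D := subset_closure (Set.mem_insert_of_mem _ rfl)
  have hrD : r ∈ D := mul_mem hwD hvD
  have hwi : w⁻¹ = w := inv_eq_of_mul_eq_one_left hw
  have hvi : v⁻¹ = v := inv_eq_of_mul_eq_one_left hv
  have hwr : ∀ k : ℕ, w * r ^ k = (r ^ k)⁻¹ * w := by
    intro k
    induction k with
    | zero => simp
    | succ k ih =>
      calc w * r ^ (k + 1) = (w * r ^ k) * r := by rw [pow_succ, mul_assoc]
        _ = (r ^ k)⁻¹ * (w * w) * v := by rw [ih, hr]; group
        _ = (r ^ k)⁻¹ * v := by rw [hw, mul_one]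
        _ = (r ^ k)⁻¹ * (r⁻¹ * w) := by
          congr 1
          rw [hr, mul_inv_rev, hwi, hvi, mul_assoc, hw, mul_one]
        _ = (r ^ (k + 1))⁻¹ * w := by rw [pow_succ']; group
  have hv1 : v = r⁻¹ * w := by rw [hr, mul_inv_rev, hwi, hvi, mul_assoc, hw, mul_one]
  have hconj : ∀ j : ℕ, (r ^ j)⁻¹ * w * r ^ j = (r ^ (2 * j))⁻¹ * w := fun j => by
    rw [mul_assoc, hwr, ← mul_assoc, ← mul_inv_rev, ← pow_add, two_mul]
  rcases Nat.even_or_odd (orderOf r) with ⟨k, hk⟩ | ⟨k, hk⟩
  · right
    have hz2 : r ^ k * r ^ k = 1 := by rw [← pow_add, ← hk, pow_orderOf_eq_one]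
    have hzi : (r ^ k)⁻¹ = r ^ k := inv_eq_of_mul_eq_one_left hz2
    have hz1 : r ^ k ≠ 1 := fun e => by
      have h0 := orderOf_pos r
      have := Nat.le_of_dvd (by omega) (orderOf_dvd_of_pow_eq_one e)
      omega
    have hzw : r ^ k * w = w * r ^ k := by rw [hwr, hzi]
    have hzr : r * r ^ k = r ^ k * r := by rw [← pow_succ, ← pow_succ']
    have hzv : r ^ k * v = v * r ^ k := by
      have hc : Commute (r ^ k) r⁻¹ := (show Commute (r ^ k) r from hzr.symm).inv_right
      have h := (hc.mul_right (show Commute (r ^ k) w from hzw)).eq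
      rwa [← hv1] at h
    refine ⟨r ^ k, pow_mem hrD k, hz2, hz1, hzw, hzv, ?_⟩
    rcases Nat.even_or_odd k with ⟨j, hj⟩ | ⟨j, hj⟩
    · refine ⟨(r ^ j)⁻¹, inv_mem (pow_mem hrD j), Or.inl ?_⟩
      have e1 : (r ^ j)⁻¹ * w * r ^ j = r ^ k * w := by rw [hconj, show 2 * j = k by omega, hzi]
      refine ⟨by rw [inv_inv, e1], ?_⟩
      have hcj : Commute ((r ^ j)⁻¹) r⁻¹ := ((Commute.pow_self r j).inv_left).inv_right
      calc (r ^ j)⁻¹ * v * ((r ^ j)⁻¹)⁻¹ = ((r ^ j)⁻¹ * r⁻¹) * w * r ^ j := by rw [hv1, inv_inv]; group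
        _ = r⁻¹ * ((r ^ j)⁻¹ * w * r ^ j) := by rw [hcj.eq]; group
        _ = r ^ k * v := by
          rw [e1, hv1, ← mul_assoc, ← mul_assoc,
            ((show Commute (r ^ k) r from hzr.symm).inv_right).eq]
    · have e2 : (r ^ j)⁻¹ * v * ((r ^ j)⁻¹)⁻¹ = r ^ k * w := by
        calc (r ^ j)⁻¹ * v * ((r ^ j)⁻¹)⁻¹ = (r ^ j)⁻¹ * (r⁻¹ * w) * r ^ j := by rw [hv1, inv_inv]
          _ = (r * r ^ j)⁻¹ * (w * r ^ j) := by group
          _ = (r * r ^ j)⁻¹ * (r ^ j)⁻¹ * w := by rw [hwr]; group
          _ = (r ^ j * (r * r ^ j))⁻¹ * w := by rw [← mul_inv_rev]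
          _ = r ^ k * w := by
            rw [← pow_succ' r j, ← pow_add, show j + (j + 1) = k by omega, hzi]
      refine ⟨(r ^ j)⁻¹, inv_mem (pow_mem hrD j), Or.inr ⟨e2, ?_⟩⟩
      have hw' : w = r ^ k * ((r ^ j)⁻¹ * v * ((r ^ j)⁻¹)⁻¹) := by rw [e2, ← mul_assoc, hz2, one_mul]
      have hcz : Commute ((r ^ j)⁻¹⁻¹) (r ^ k) := by rw [inv_inv]; exact Commute.pow_pow_self r j k
      calc ((r ^ j)⁻¹)⁻¹ * w * (r ^ j)⁻¹
          = ((r ^ j)⁻¹⁻¹ * r ^ k) * ((r ^ j)⁻¹ * v * ((r ^ j)⁻¹)⁻¹) * (r ^ j)⁻¹ := by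
            conv_lhs => rw [hw']
            group
        _ = r ^ k * v := by rw [hcz.eq]; group
  · left
    refine ⟨w * (r ^ k)⁻¹, mul_mem hwD (inv_mem (pow_mem hrD k)), ?_⟩
    calc w * (r ^ k)⁻¹ * w * (w * (r ^ k)⁻¹)⁻¹ = w * ((r ^ k)⁻¹ * w * r ^ k) * w⁻¹ := by group
      _ = w * ((r ^ (2 * k))⁻¹ * w) * w := by rw [hconj, hwi]
      _ = w * (r * w) * w := by
        rw [show (r ^ (2 * k))⁻¹ = r from inv_eq_of_mul_eq_one_right (by
          rw [← pow_succ, ← hk, pow_orderOf_eq_one])]
      _ = v := by rw [hr, show w * (w * v * w) * w = (w * w) * v * (w * w) by group, hw]; group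

variable (f : S →* G)

/-- The class of an element of the big group. -/
def Cl (k : ℕ) (x : G) : Prop := ∃ i : Fin 4, i.val = k ∧ ∃ g : G, g * f (rep i) * g⁻¹ = x

/-- The centralizer of a list lies inside. -/
def Inside (U : List ℕ) : Prop :=
  ∀ g : G, (∀ u : S, codeS u ∈ U → Commute g (f u)) → g ∈ f.range

/-- A stage. -/
def Stage (N : List (ℕ × ℕ)) : Prop :=
  ∀ v : G, v * v = 1 →
    (∀ p ∈ N, ∀ u : S, codeS u = p.1 → Commute v (f u) ∧ Cl f p.2 (v * f u)) → v ∈ f.range

variable {f}

theorem Cl.conj {k : ℕ} {x : G} (h : Cl f k x) (g : G) : Cl f k (g * x * g⁻¹) := by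
  obtain ⟨i, hi, a, ha⟩ := h
  exact ⟨i, hi, g * a, by rw [← ha]; group⟩

theorem Cl.unique (D : Hyp f) {k l : ℕ} {x : G} (h : Cl f k x) (h' : Cl f l x) : k = l := by
  obtain ⟨i, rfl, a, ha⟩ := h
  obtain ⟨j, rfl, b, hb⟩ := h'
  refine congrArg Fin.val (D.ne i j (b⁻¹ * a) ?_)
  rw [show b⁻¹ * a * f (rep i) * (b⁻¹ * a)⁻¹ = b⁻¹ * (a * f (rep i) * a⁻¹) * b by group, ha, ← hb]
  group

theorem cl_image {s : S} (h : s * s = 1) (h1 : s ≠ 1) : Cl f (clsC (codeS s)) (f s) := by
  obtain ⟨g, i, hi, e⟩ := exists_rep_cls h h1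
  exact ⟨i, hi, f g, by rw [← map_inv, ← map_mul, ← map_mul, e]⟩

theorem not_cl_one (D : Hyp f) {k : ℕ} : ¬ Cl f k 1 := by
  rintro ⟨i, -, g, hg⟩
  have h : rep i = 1 := D.inj (by rw [map_one]; exact conj_eq_one_iff.1 hg)
  have : codeS (rep i) = oneC := by rw [h, codeS_one]
  rw [codeS_rep] at this
  revert this
  fin_cases i <;> decide +kernel

theorem cls_of_cl (D : Hyp f) {s : S} (h : s * s = 1) {k : ℕ} (hk : Cl f k (f s)) :
    k = clsC (codeS s) := by
  refine hk.unique D (cl_image h fun e => ?_)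
  rw [e, map_one] at hk
  exact not_cl_one D hk

/-- Elements of a list of numbers are involutions of the model. -/
def WF (U : List ℕ) : Prop := ∀ a ∈ U, ∃ s : S, codeS s = a ∧ s * s = 1

/-- A list is exactly what is left of the involutions after commuting with the list `U`. -/
structure YOk (Y U : List ℕ) : Prop where
  sound : ∀ a ∈ Y, ∃ s : S, codeS s = a ∧ s * s = 1 ∧ ∀ u : S, codeS u ∈ U → Commute s u
  full : ∀ s : S, s * s = 1 → s ≠ 1 → (∀ u : S, codeS u ∈ U → Commute s u) → codeS s ∈ Y

/-- A test for closed lists. -/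
def ClSound (f : S →* G) (cl : List ℕ → Bool) : Prop :=
  ∀ U : List ℕ, WF U → cl U = true → Inside f U

/-- A test for finished stages. -/
def BaseSound (f : S →* G) (base : List (ℕ × ℕ) → Bool) : Prop :=
  ∀ N : List (ℕ × ℕ), WF (N.map Prod.fst) → base N = true → Stage f N

/-- Two classes on one element. -/
def bad (N : List (ℕ × ℕ)) : Bool := N.any fun p => N.any fun q => p.1 == q.1 && p.2 != q.2

/-- The classes after multiplication by `x`. -/
def pat (N : List (ℕ × ℕ)) (x : ℕ) : List (ℕ × ℕ) := N.map fun p => (p.1, clsC (mulF x p.1))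

/-- The list extended by `t`. -/
def ext (N P : List (ℕ × ℕ)) (t : ℕ) : List (ℕ × ℕ) := N ++ P.map fun p => (mulF t p.1, p.2)

/-- The auxiliary elements of a stage and of those below it: `cons τ c r` adds the stage `c` at `τ` to `r`. -/
inductive Tr where
  | nil (w : ℕ)
  | cons (τ : ℕ) (c : Tr) (r : Tr)

/-- A stage with the stages below it. -/
def Tr.mk (w : ℕ) : List (ℕ × Tr) → Tr
  | [] => .nil w
  | (τ, c) :: l => .cons τ c (Tr.mk w l)

/-- The auxiliary element. -/
def Tr.w : Tr → ℕ
  | .nil w => w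
  | .cons _ _ r => r.w

/-- The stages below. -/
def Tr.kids : Tr → List (ℕ × Tr)
  | .nil _ => []
  | .cons τ c r => (τ, c) :: r.kids

/-- The step for one element of the centralizer. -/
def subCheck (rec : Tr → List ℕ → List (ℕ × ℕ) → Bool) (base : List (ℕ × ℕ) → Bool) (t : Tr)
    (Y : List ℕ) (τ : ℕ) (N' : List (ℕ × ℕ)) : Bool :=
  bad N' || base N' ||
    match t.kids.find? (fun k => k.1 == τ) with
    | some k => rec k.2 (Y.filter (commF τ)) N'
    | none => false

/-- The check of a stage. -/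
def check (cl : List ℕ → Bool) (base : List (ℕ × ℕ) → Bool) :
    ℕ → Tr → List ℕ → List (ℕ × ℕ) → Bool
  | 0, _, _, _ => false
  | d + 1, t, Y, N =>
    Y.contains t.w && cl (N.map Prod.fst ++ (N.map Prod.fst).map (mulF t.w)) &&
      !(pat N t.w == N) &&
      Y.all fun τ =>
        !commF τ t.w || cl (N.map Prod.fst ++ (N.map Prod.fst).map (mulF τ)) ||
          ((!(pat N (mulF τ t.w) == pat N t.w) ||
              subCheck (check cl base d) base t Y τ (ext N N τ)) &&
            (!(pat N (mulF τ t.w) == N) ||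
              subCheck (check cl base d) base t Y τ (ext N (pat N t.w) τ)))

theorem stage_of_bad (D : Hyp f) {N : List (ℕ × ℕ)} (hN : WF (N.map Prod.fst)) (h : bad N = true) :
    Stage f N := by
  intro v _ hvN
  obtain ⟨p, hp, h⟩ := List.any_eq_true.1 h
  obtain ⟨q, hq, h⟩ := List.any_eq_true.1 h
  rw [Bool.and_eq_true, beq_iff_eq, bne_iff_ne] at h
  obtain ⟨u, hu, -⟩ := hN p.1 (List.mem_map_of_mem hp)
  exact absurd ((hvN p hp u hu).2.unique D (hvN q hq u (hu.trans h.1)).2) h.2

theorem pat_mulC (N : List (ℕ × ℕ)) (x : ℕ) : pat N x = N.map fun p => (p.1, clsC (mulC x p.1)) := by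
  rw [pat, mulF_eq]

theorem pat_eq_self {N : List (ℕ × ℕ)} {x : ℕ} : pat N x = N ↔ ∀ p ∈ N, clsC (mulC x p.1) = p.2 := by
  rw [pat_mulC]
  constructor
  · intro h p hp
    have := List.map_inj_left (g := id).1 (h.trans (List.map_id N).symm) p hp
    rw [id_eq, Prod.ext_iff] at this
    exact this.2
  · intro h
    conv_rhs => rw [← List.map_id N]
    refine List.map_congr_left fun p hp => ?_
    rw [h p hp, id_eq]

theorem map_fst_ext (N : List (ℕ × ℕ)) {P : List (ℕ × ℕ)} (hP : P.map Prod.fst = N.map Prod.fst) (t : ℕ) :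
    (ext N P t).map Prod.fst = N.map Prod.fst ++ (N.map Prod.fst).map (mulC t) := by
  rw [ext, mulF_eq, List.map_append, List.map_map, ← hP, List.map_map]
  rfl

theorem map_fst_pat (N : List (ℕ × ℕ)) (x : ℕ) : (pat N x).map Prod.fst = N.map Prod.fst := by
  rw [pat, List.map_map]
  rfl

theorem WF.ext {U : List ℕ} (hU : WF U) {t : S} (ht : t * t = 1)
    (hc : ∀ u : S, codeS u ∈ U → Commute t u) : WF (U ++ U.map (mulC (codeS t))) := by
  intro a ha
  rcases List.mem_append.1 ha with ha | ha
  · exact hU a ha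
  · obtain ⟨b, hb, rfl⟩ := List.mem_map.1 ha
    obtain ⟨u, rfl, hu⟩ := hU b hb
    refine ⟨t * u, codeS_mul t u, ?_⟩
    rw [show t * u * (t * u) = t * (u * t) * u by group, ← (hc u hb).eq,
      show t * (t * u) * u = t * t * (u * u) by group, ht, hu, one_mul]

theorem YOk.filter {Y U : List ℕ} (hY : YOk Y U) (hU : WF U) (h1 : oneC ∈ U) (t : S) :
    YOk (Y.filter (commF (codeS t))) (U ++ U.map (mulC (codeS t))) where
  sound a ha := by
    obtain ⟨ha, hc⟩ := List.mem_filter.1 ha
    obtain ⟨s, rfl, hs, hsU⟩ := hY.sound a ha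
    refine ⟨s, rfl, hs, fun u hu => ?_⟩
    rcases List.mem_append.1 hu with hu | hu
    · exact hsU u hu
    · obtain ⟨b, hb, e⟩ := List.mem_map.1 hu
      obtain ⟨u', rfl, -⟩ := hU b hb
      rw [show u = t * u' from codeS_injective (by rw [codeS_mul, e])]
      exact (((commF_iff t s).1 hc).symm).mul_right (hsU u' hb)
  full s hs hs1 hsU := by
    refine List.mem_filter.2 ⟨hY.full s hs hs1 fun u hu => hsU u (List.mem_append_left _ hu), ?_⟩
    refine (commF_iff t s).2 (hsU t (List.mem_append_right _ (List.mem_map.2 ⟨oneC, h1, ?_⟩))).symm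
    rw [← codeS_one, ← codeS_mul, mul_one]

/-- A checked stage holds. -/
theorem stage_of_check [Finite G] (D : Hyp f) {cl : List ℕ → Bool} (hcl : ClSound f cl)
    {base : List (ℕ × ℕ) → Bool} (hbase : BaseSound f base) :
    ∀ (d : ℕ) (t : Tr) (Y : List ℕ) (N : List (ℕ × ℕ)), WF (N.map Prod.fst) → oneC ∈ N.map Prod.fst →
      YOk Y (N.map Prod.fst) → check cl base d t Y N = true → Stage f N
  | 0, _, _, _, _, _, _, h => by simp [check] at h
  | d + 1, t, Y, N, hN, h1, hY, h => by
    simp only [check, mulF_eq, Bool.and_eq_true, Bool.not_eq_true', beq_eq_false_iff_ne, List.contains_iff_mem,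
      List.all_eq_true, Bool.or_eq_true] at h
    obtain ⟨⟨⟨hwY, hwcl⟩, hne⟩, hall⟩ := h
    obtain ⟨w, hw, hw2, hwU⟩ := hY.sound _ hwY
    rw [← hw] at hwcl hne hall
    intro v hv hvN
    set U := N.map Prod.fst with hUdef
    have hvU : ∀ u : S, codeS u ∈ U → Commute v (f u) := fun u hu => by
      obtain ⟨p, hp, e⟩ := List.mem_map.1 hu
      exact (hvN p hp u e.symm).1
    have hfw : f w * f w = 1 := by rw [← map_mul, hw2, map_one]
    have hclos : ∀ g ∈ Subgroup.closure ({f w, v} : Set G), ∀ u : S, codeS u ∈ U → Commute g (f u) := by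
      intro g hg u hu
      induction hg using Subgroup.closure_induction with
      | mem x hx =>
        rcases hx with rfl | rfl
        exacts [(hwU u hu).map f, hvU u hu]
      | one => exact Commute.one_left _
      | mul x y _ _ hx hy => exact hx.mul_left hy
      | inv x _ hx => exact hx.inv_left
    have hwu : ∀ u : S, codeS u ∈ U → w * u * (w * u) = 1 := fun u hu => by
      obtain ⟨u', hu', hu2⟩ := hN _ hu
      obtain rfl := codeS_injective hu'
      rw [show w * u' * (w * u') = w * (u' * w) * u' by group, ← (hwU u' hu).eq,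
        show w * (w * u') * u' = w * w * (u' * u') by group, hw2, hu2, one_mul]
    rcases dihedral_full hfw hv with ⟨g, hg, e⟩ | ⟨z, hzD, hz2, hz1, hzw, hzv, g, hg, hgc⟩
    · refine absurd ?_ hne
      refine pat_eq_self.2 fun p hp => ?_
      obtain ⟨u, hu, -⟩ := hN p.1 (List.mem_map_of_mem hp)
      have huU : codeS u ∈ U := hu ▸ List.mem_map_of_mem hp
      have e2 : g * f (w * u) * g⁻¹ = v * f u := by
        rw [map_mul, show g * (f w * f u) * g⁻¹ = g * f w * g⁻¹ * (g * f u * g⁻¹) by group, e,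
          (hclos g hg u huU).eq, mul_inv_cancel_right]
      have hk : Cl f p.2 (f (w * u)) := by
        have := ((hvN p hp u hu).2).conj g⁻¹
        rwa [← e2, inv_inv, show g⁻¹ * (g * f (w * u) * g⁻¹) * g = f (w * u) by group] at this
      rw [← hu, ← codeS_mul, ← cls_of_cl D (hwu u huU) hk]
    · obtain ⟨τ, hτ⟩ : z ∈ f.range := by
        refine hcl _ (hN.ext hw2 hwU) hwcl z fun u hu => ?_
        rcases List.mem_append.1 hu with hu | hu
        · exact hclos z hzD u hu
        · obtain ⟨b, hb, e⟩ := List.mem_map.1 hu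
          obtain ⟨u', rfl, -⟩ := hN b hb
          rw [show u = w * u' from codeS_injective (by rw [codeS_mul, e]), map_mul]
          exact (show Commute z (f w) from hzw).mul_right (hclos z hzD u' hb)
      have hτ2 : τ * τ = 1 := D.inj (by rw [map_mul, hτ, hz2, map_one])
      have hτ1 : τ ≠ 1 := fun e => hz1 (by rw [← hτ, e, map_one])
      have hτU : ∀ u : S, codeS u ∈ U → Commute τ u := fun u hu =>
        D.inj (by rw [map_mul, map_mul, hτ]; exact (hclos z hzD u hu).eq)
      have hτw : Commute τ w := D.inj (by rw [map_mul, map_mul, hτ]; exact hzw)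
      have hτY : codeS τ ∈ Y := hY.full τ hτ2 hτ1 hτU
      have hN' : WF (U ++ U.map (mulC (codeS τ))) := hN.ext hτ2 hτU
      have hY' := hY.filter hN h1 τ
      have hvτ : ∀ u : S, codeS u ∈ U → Commute v (f (τ * u)) := fun u hu => by
        rw [map_mul, hτ]
        exact (show Commute v z from hzv.symm).mul_right (hvU u hu)
      have hvU' : ∀ u : S, codeS u ∈ U ++ U.map (mulC (codeS τ)) → Commute v (f u) := by
        intro u hu
        rcases List.mem_append.1 hu with hu | hu
        · exact hvU u hu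
        · obtain ⟨b, hb, e⟩ := List.mem_map.1 hu
          obtain ⟨u', rfl, -⟩ := hN b hb
          rw [show u = τ * u' from codeS_injective (by rw [codeS_mul, e])]
          exact hvτ u' hb
      have hcomm : commF (codeS τ) (codeS w) = true := (commF_iff τ w).2 hτw
      rcases hall _ hτY with (h' | h') | h'
      · rw [hcomm] at h'
        exact absurd h' (by decide)
      · exact hcl _ hN' h' v hvU'
      have htwu : ∀ u : S, codeS u ∈ U → τ * w * u * (τ * w * u) = 1 := fun u hu => by
        have hc : Commute τ (w * u) := hτw.mul_right (hτU u hu)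
        rw [mul_assoc τ w u, show τ * (w * u) * (τ * (w * u)) = τ * ((w * u) * τ) * (w * u) by group,
          ← hc.eq, show τ * (τ * (w * u)) * (w * u) = τ * τ * ((w * u) * (w * u)) by group, hτ2,
          hwu u hu, one_mul]
      have hsub : ∀ P : List (ℕ × ℕ), P.map Prod.fst = U →
          subCheck (check cl base d) base t Y (codeS τ) (ext N P (codeS τ)) = true →
          (∀ p ∈ P, ∀ u : S, codeS u = p.1 → v ∈ f.range ∨ Cl f p.2 (v * f (τ * u))) →
          v ∈ f.range := by
        intro P hP hs hcls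
        by_contra hout
        have hE : (ext N P (codeS τ)).map Prod.fst = U ++ U.map (mulC (codeS τ)) := map_fst_ext N hP _
        have hst : Stage f (ext N P (codeS τ)) := by
          simp only [subCheck, Bool.or_eq_true] at hs
          rcases hs with (hs | hs) | hs
          · exact stage_of_bad D (hE ▸ hN') hs
          · exact hbase _ (hE ▸ hN') hs
          · split at hs
            · exact stage_of_check D hcl hbase d _ _ _ (hE ▸ hN') (hE ▸ List.mem_append_left _ h1)
                (hE ▸ hY') hs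
            · cases hs
        refine hout (hst v hv fun p hp u hu => ⟨hvU' u ?_, ?_⟩)
        · rw [← hE, hu]
          exact List.mem_map_of_mem hp
        rcases List.mem_append.1 hp with hp | hp
        · exact (hvN p hp u hu).2
        · obtain ⟨q, hq, rfl⟩ := List.mem_map.1 hp
          obtain ⟨u', hu', -⟩ := hN q.1 (hP ▸ List.mem_map_of_mem hq)
          rw [show u = τ * u' from codeS_injective (by rw [codeS_mul, hu, hu', mulF_eq])]
          exact (hcls q hq u' hu').resolve_left hout
      rcases hgc with ⟨e1, e2⟩ | ⟨e1, e2⟩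
      · refine hsub N rfl (h'.1.resolve_left (not_not_intro ?_)) fun p hp u hu => Or.inr ?_
        · rw [pat_mulC, pat_mulC]
          refine List.map_congr_left fun p hp => ?_
          obtain ⟨u, hu, -⟩ := hN p.1 (List.mem_map_of_mem hp)
          have huU : codeS u ∈ U := hu ▸ List.mem_map_of_mem hp
          have he : g * f (w * u) * g⁻¹ = f (τ * w * u) := by
            rw [map_mul, map_mul, map_mul, hτ,
              show g * (f w * f u) * g⁻¹ = g * f w * g⁻¹ * (g * f u * g⁻¹) by group, e1,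
              (hclos g hg u huU).eq, mul_inv_cancel_right]
          rw [← hu, ← codeS_mul, ← codeS_mul, ← codeS_mul]
          refine Prod.ext rfl ?_
          change clsC (codeS (τ * w * u)) = clsC (codeS (w * u))
          by_cases hwu1 : w * u = 1
          · rw [show τ * w * u = 1 from D.inj (by rw [← he, hwu1, map_one, mul_one, mul_inv_cancel]), hwu1]
          · exact (cls_of_cl D (htwu u huU) (he ▸ (cl_image (hwu u huU) hwu1).conj g)).symm
        · have huU : codeS u ∈ U := hu ▸ List.mem_map_of_mem hp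
          have he : g * (v * f u) * g⁻¹ = v * f (τ * u) := by
            rw [map_mul, hτ, show g * (v * f u) * g⁻¹ = g * v * g⁻¹ * (g * f u * g⁻¹) by group, e2,
              (hclos g hg u huU).eq, mul_inv_cancel_right, hzv, mul_assoc]
          exact he ▸ ((hvN p hp u hu).2).conj g
      · refine hsub (pat N (codeS w)) (map_fst_pat _ _) (h'.2.resolve_left (not_not_intro ?_)) ?_
        · refine pat_eq_self.2 fun p hp => ?_
          obtain ⟨u, hu, -⟩ := hN p.1 (List.mem_map_of_mem hp)
          have huU : codeS u ∈ U := hu ▸ List.mem_map_of_mem hp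
          have he : g * (v * f u) * g⁻¹ = f (τ * w * u) := by
            rw [map_mul, map_mul, hτ, show g * (v * f u) * g⁻¹ = g * v * g⁻¹ * (g * f u * g⁻¹) by group, e1,
              (hclos g hg u huU).eq, mul_inv_cancel_right]
          rw [← hu, ← codeS_mul, ← codeS_mul,
            ← cls_of_cl D (htwu u huU) (he ▸ ((hvN p hp u hu).2).conj g)]
        · intro p hp u hu
          obtain ⟨q, hq, rfl⟩ := List.mem_map.1 hp
          change codeS u = q.1 at hu
          have huU : codeS u ∈ U := hu ▸ List.mem_map_of_mem hq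
          have he : g⁻¹ * f (w * u) * g⁻¹⁻¹ = v * f (τ * u) := by
            rw [map_mul, map_mul, hτ, inv_inv,
              show g⁻¹ * (f w * f u) * g = g⁻¹ * f w * g * (g⁻¹ * f u * g) by group, e2,
              mul_assoc g⁻¹ (f u) g, ← (hclos g hg u huU).eq, inv_mul_cancel_left, hzv, mul_assoc]
          change v ∈ f.range ∨ Cl f (clsC (mulF (codeS w) q.1)) (v * f (τ * u))
          rw [mulF_eq, ← hu, ← codeS_mul]
          by_cases hwu1 : w * u = 1
          · left
            rw [hwu1, map_one, mul_one, mul_inv_cancel] at he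
            rw [eq_inv_of_mul_eq_one_left he.symm]
            exact inv_mem ⟨_, rfl⟩
          · exact Or.inr (he ▸ (cl_image (hwu u huU) hwu1).conj g⁻¹)

/-- Powers of numbers. -/
def powC (c : ℕ) : ℕ → ℕ
  | 0 => oneC
  | n + 1 => mulC (powC c n) c

theorem codeS_pow (s : S) : ∀ n : ℕ, codeS (s ^ n) = powC (codeS s) n
  | 0 => by rw [pow_zero, codeS_one, powC]
  | n + 1 => by rw [pow_succ, codeS_mul, codeS_pow s n, powC]

/-- Two elements with the classes of a stage and an element of order three made of them. -/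
def threeOk (Y : List ℕ) (N : List (ℕ × ℕ)) (x y m : ℕ) : Bool :=
  Y.contains x && Y.contains y && (pat N x == N) && (pat N y == N) &&
    (N.all fun p => decide (p.2 < 4)) && !(powC (mulC x y) m == oneC) &&
      (mulC (mulC (powC (mulC x y) m) (powC (mulC x y) m)) (powC (mulC x y) m) == oneC)

/-- The centralizer of a list lies inside. -/
theorem inside_of_stage (D : Hyp f) {N : List (ℕ × ℕ)} (hst : Stage f N)
    (hN : WF (N.map Prod.fst)) {Y : List ℕ} (hY : YOk Y (N.map Prod.fst)) {x y m : ℕ}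
    (h : threeOk Y N x y m = true) : Inside f (N.map Prod.fst) := by
  simp only [threeOk, Bool.and_eq_true, Bool.not_eq_true', beq_iff_eq, beq_eq_false_iff_ne,
    List.contains_iff_mem, List.all_eq_true, decide_eq_true_eq] at h
  obtain ⟨⟨⟨⟨⟨⟨hx, hy⟩, hxp⟩, hyp⟩, hlt⟩, hσ1⟩, hσ3⟩ := h
  intro g hg
  have key : ∀ a ∈ Y, pat N a = N → ∀ s : S, codeS s = a → g * f s * g⁻¹ ∈ f.range := by
    intro a ha hap s hs
    obtain ⟨s', hs', hs2, hsU⟩ := hY.sound a ha
    obtain rfl := codeS_injective (hs'.trans hs.symm)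
    refine hst _ ?_ fun p hp u hu => ?_
    · rw [show g * f s' * g⁻¹ * (g * f s' * g⁻¹) = g * (f s' * f s') * g⁻¹ by group, ← map_mul, hs2,
        map_one, mul_one, mul_inv_cancel]
    have hu' : codeS u ∈ N.map Prod.fst := hu ▸ List.mem_map_of_mem hp
    obtain ⟨u', hu'', hu2⟩ := hN _ hu'
    obtain rfl := codeS_injective hu''
    have hgu : g * f u' * g⁻¹ = f u' := by rw [(hg u' hu').eq, mul_inv_cancel_right]
    have hcom : Commute (g * f s' * g⁻¹) (f u') := by
      have := ((hsU u' hu').map f).map (MulAut.conj g).toMonoidHom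
      simpa only [MulEquiv.coe_toMonoidHom, MulAut.conj_apply, hgu] using this
    refine ⟨hcom, ?_⟩
    have e : g * f s' * g⁻¹ * f u' = g * f (s' * u') * g⁻¹ := by
      rw [map_mul]
      conv_lhs => rw [← hgu]
      group
    have hcls : clsC (codeS (s' * u')) = p.2 := by
      rw [codeS_mul, hs', hu]
      exact pat_eq_self.1 hap p hp
    have hsu2 : s' * u' * (s' * u') = 1 := by
      rw [show s' * u' * (s' * u') = s' * (u' * s') * u' by group, ← (hsU u' hu').eq,
        show s' * (s' * u') * u' = s' * s' * (u' * u') by group, hs2, hu2, one_mul]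
    rw [e, ← hcls]
    refine (cl_image hsu2 fun e1 => ?_).conj g
    have := hlt p hp
    rw [← hcls, e1, codeS_one, clsC_one] at this
    omega
  obtain ⟨sx, hsx, -, -⟩ := hY.sound x hx
  obtain ⟨sy, hsy, -, -⟩ := hY.sound y hy
  have hσ : codeS ((sx * sy) ^ m) = powC (mulC x y) m := by rw [codeS_pow, codeS_mul, hsx, hsy]
  refine D.move ((sx * sy) ^ m) ?_ g ?_
  · refine orderOf_eq_prime (hp := ⟨Nat.prime_three⟩) ?_ fun e => hσ1 ?_
    · refine codeS_injective ?_
      rw [pow_succ, pow_two, codeS_mul, codeS_mul, hσ, hσ3, codeS_one]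
    · rw [← hσ, e, codeS_one]
  · rw [map_pow, map_mul, ← conj_pow]
    refine pow_mem ?_ m
    rw [show g * (f sx * f sy) * g⁻¹ = g * f sx * g⁻¹ * (g * f sy * g⁻¹) by group]
    exact mul_mem (key x hx hxp sx hsx) (key y hy hyp sy hsy)

end Cfsg.Agent.SpThreeCent.SixEnd
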