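import Cfsg.Agent.Lib.SpThreeCent.SixEnd.Facts
import Cfsg.Agent.Lib.Sp6Mult.Upper

/-!
# Seven involutions with the relations of type `E₇` give an embedding of the model of `Sp₆(2)`
-/

set_option autoImplicit false

namespace Cfsg.Agent.SpThreeCent.SixEnd

open Subgroup Cfsg.Agent.Sp6Mult

universe u

/-- Seven involutions with the relations of the diagram, two of them not commuting, generating a group without
central involutions: the model embeds. -/
theorem exists_model_hom {G : Type u} [Group G] (n : Fin 7 → G) (hsq : ∀ i, n i * n i = 1)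
    (h2 : ∀ i j, cm i j = 2 → Commute (n i) (n j))
    (h3 : ∀ i j, cm i j = 3 → n i * n j * n i = n j * n i * n j)
    (hne : ¬ Commute (n 0) (n 2))
    (hc : ∀ z ∈ Subgroup.closure (Set.range n), z * z = 1 → (∀ i, Commute z (n i)) → z = 1) :
    ∃ f : S →* G, Function.Injective f ∧ ∀ i, f (node i) = n i := by
  let ψ : WGr →* G := csys.lift ⟨n, isLiftable hsq h2 h3⟩
  let π : WGr →* S :=
    csys.lift ⟨node, isLiftable node_sq (fun _ _ h => node_comm h) (fun _ _ h => node_braid h)⟩
  have hψ : ∀ i, ψ (csys.simple i) = n i := fun i => CoxeterSystem.lift_apply_simple _ _ i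
  have hπ : ∀ i, π (csys.simple i) = node i := fun i => CoxeterSystem.lift_apply_simple _ _ i
  have hsur : Function.Surjective π := by
    rw [← MonoidHom.range_eq_top, eq_top_iff, ← closure_range_node, Subgroup.closure_le]
    rintro _ ⟨i, rfl⟩
    exact ⟨_, hπ i⟩
  have hk : Nat.card π.ker = 2 := by
    have h := card_eq_card_quotient_mul_card_subgroup π.ker
    rw [Nat.card_congr (QuotientGroup.quotientKerEquivOfSurjective π hsur).toEquiv, card_S,
      Chevalley.Types.CoxE7.card_eq] at h
    omega
  have hmem : ∀ w, ψ w ∈ Subgroup.closure (Set.range n) := fun w => by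
    induction w using csys.simple_induction with
    | simple i => rw [hψ]; exact Subgroup.subset_closure ⟨i, rfl⟩
    | one => rw [map_one]; exact one_mem _
    | mul w w' ih ih' => rw [map_mul]; exact mul_mem ih ih'
  have hle : π.ker ≤ ψ.ker := by
    intro z hz
    by_cases h1 : z = 1
    · rw [h1]; exact one_mem _
    have hn := MonoidHom.normal_ker π
    obtain ⟨y, -, hy⟩ := (Nat.card_eq_two_iff' (1 : π.ker)).1 hk
    have huniq : ∀ u : π.ker, u ≠ 1 → (u : WGr) = z := fun u hu =>
      congrArg Subtype.val ((hy u hu).trans (hy ⟨z, hz⟩ fun h => h1 (congrArg Subtype.val h)).symm)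
    have hcent : ∀ w, w * z * w⁻¹ = z := fun w =>
      huniq ⟨_, hn.conj_mem z hz w⟩ fun h => h1 (conj_eq_one_iff.1 (congrArg Subtype.val h))
    have hzz : z * z = 1 := by
      have h := pow_card_eq_one' (x := (⟨z, hz⟩ : π.ker))
      rw [hk, pow_two] at h
      exact congrArg Subtype.val h
    refine MonoidHom.mem_ker.2 (hc _ ?_ (by rw [← map_mul, hzz, map_one]) fun i => ?_)
    · exact hmem z
    · rw [← hψ i]
      exact (show Commute z (csys.simple i) from (mul_inv_eq_iff_eq_mul.1 (hcent (csys.simple i))).symm).map ψ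
  refine ⟨π.liftOfSurjective hsur ⟨ψ, hle⟩, ?_, fun i => ?_⟩
  · rw [← MonoidHom.ker_eq_bot_iff]
    have := isSimpleGroup_S
    refine (IsSimpleGroup.eq_bot_or_eq_top_of_normal _ inferInstance).resolve_right fun h => hne ?_
    have h0 : π.liftOfSurjective hsur ⟨ψ, hle⟩ (node 0) = 1 :=
      MonoidHom.mem_ker.1 (h ▸ mem_top (node 0))
    rw [← hπ 0, MonoidHom.liftOfRightInverse_comp_apply] at h0
    rw [← hψ 0, h0]
    exact Commute.one_left _
  · rw [← hπ i, MonoidHom.liftOfRightInverse_comp_apply]
    exact hψ i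

end Cfsg.Agent.SpThreeCent.SixEnd
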