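import Cfsg.Agent.Lib.SpThreeCent.SixEnd.Interface

/-!
# The stabilizer of two orthogonal points in the model
-/

set_option autoImplicit false
set_option maxRecDepth 100000
set_option synthInstance.maxSize 10000

namespace Cfsg.Agent.SpThreeCent.SixEnd

open Subgroup

/-- The vectors orthogonal to both points, apart from those of their span, are images of one of them. -/
theorem pair_orbit : ∀ y : Fin 64, bil y 8 = false → bil y 16 = false →
    y = 0 ∨ y = 8 ∨ y = 16 ∨ y = 24 ∨
      ∃ x1 : Fin 64, (bil x1 8 = false ∧ bil x1 16 = false) ∧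
        ∃ x2 : Fin 64, (bil x2 8 = false ∧ bil x2 16 = false) ∧ tvFun x1 (tvFun x2 20) = y := by
  decide +kernel

/-- The point stabilizer is transitive on the other orthogonal points. -/
theorem orth_orbit : ∀ y : Fin 64, bil y 8 = false → y ≠ 0 → y ≠ 8 →
    ∃ x1 : Fin 64, bil x1 8 = false ∧ ∃ x2 : Fin 64, bil x2 8 = false ∧ tvFun x1 (tvFun x2 16) = y := by
  decide +kernel

/-- Transitivity on the points. -/
theorem point_orbit : ∀ y : Fin 64, y ≠ 0 → ∃ x1 x2 : Fin 64, tvFun x1 (tvFun x2 8) = y := by
  decide +kernel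

theorem bil_symm : ∀ x y : Fin 64, bil x y = bil y x := by decide +kernel

theorem tvFun_zero : ∀ y : Fin 64, tvFun 0 y = y := by decide +kernel

theorem tv_ne_comm : ∀ x y : Fin 64, bil x y = true → tvFun x (tvFun y y) ≠ tvFun y (tvFun x y) := by
  decide +kernel

theorem tv_zero : tv 0 = 1 := Equiv.ext tvFun_zero

theorem tvS_zero : tvS 0 = 1 := Subtype.ext tv_zero

theorem tv_fix {x y : Fin 64} (h : bil x y = false) : tv x y = y := if_neg (by rw [h]; decide)

theorem tvS_comm_bil {x y : Fin 64} (h : Commute (tvS x) (tvS y)) : bil x y = false := by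
  by_contra hb
  exact tv_ne_comm x y (by simpa using hb) (DFunLike.congr_fun (congrArg Subtype.val h.eq) y)

theorem tvS_conj (s : S) (x : Fin 64) : s * tvS x * s⁻¹ = tvS ((s : Equiv.Perm (Fin 64)) x) :=
  Subtype.ext (tv_conj s.2 x)

theorem S_smul (s : S) (x : Fin 64) : s • x = (s : Equiv.Perm (Fin 64)) x := rfl

/-- Elements of the model are linear. -/
theorem S_linear (s : S) (x y : Fin 64) :
    (s : Equiv.Perm (Fin 64)) (vadd x y) =
      vadd ((s : Equiv.Perm (Fin 64)) x) ((s : Equiv.Perm (Fin 64)) y) := by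
  obtain ⟨A, hA⟩ : (s : Equiv.Perm (Fin 64)) ∈ toPerm.range := by rw [range_toPerm]; exact s.2
  rw [← hA, ← encF_add ((toPerm A) x), dec_toPerm, dec_toPerm, ← Matrix.mulVec_add, ← encF_add x y]
  apply Function.LeftInverse.injective encF_dec
  rw [dec_toPerm, dec_encF, dec_encF]

theorem S_zero (s : S) : (s : Equiv.Perm (Fin 64)) 0 = 0 := by
  have h := S_linear s 0 0
  rw [show vadd 0 0 = 0 from rfl] at h
  exact h.trans ((by decide +kernel : ∀ a : Fin 64, vadd a a = 0) _)

theorem tvS_inj : ∀ x y : Fin 64, x ≠ 0 → tvS x = tvS y → x = y := by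
  intro x y hx h
  by_contra hne
  obtain ⟨z, hz⟩ := (by decide +kernel :
    ∀ x y : Fin 64, x ≠ 0 → x ≠ y → ∃ z : Fin 64, tvFun x z ≠ tvFun y z) x y hx hne
  exact hz (DFunLike.congr_fun (congrArg Subtype.val h) z)

theorem fix_of_comm {s : S} {x : Fin 64} (hx : x ≠ 0) (h : s * tvS x = tvS x * s) :
    (s : Equiv.Perm (Fin 64)) x = x := by
  refine (tvS_inj x _ hx ?_).symm
  rw [← tvS_conj, h, mul_inv_cancel_right]

/-- The elements commuting with the two transvections commute with the third. -/
theorem comm_third {s : S} (h8 : s * tvS 8 = tvS 8 * s) (h16 : s * tvS 16 = tvS 16 * s) :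
    s * tvS 24 = tvS 24 * s := by
  have h : (s : Equiv.Perm (Fin 64)) 24 = 24 := by
    have := S_linear s 8 16
    rwa [fix_of_comm (by decide) h8, fix_of_comm (by decide) h16, show vadd 8 16 = (24 : Fin 64) from rfl] at this
  have h' := tvS_conj s 24
  rw [h] at h'
  exact mul_inv_eq_iff_eq_mul.1 h'

/-- The centralizer of the two transvections. -/
theorem card_pair : Nat.card (centralizer ({tvS 8, tvS 16} : Set S)) = 768 := by
  classical
  set H := MulAction.stabilizer S (8 : Fin 64) with hH
  have horb : (MulAction.orbit S (8 : Fin 64)) = {y | y ≠ 0} := by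
    ext y
    constructor
    · rintro ⟨s, rfl⟩ h
      change (s : Equiv.Perm (Fin 64)) 8 = 0 at h
      exact absurd ((Equiv.injective _) (h.trans (S_zero s).symm)) (by decide)
    · intro hy
      obtain ⟨x1, x2, h⟩ := point_orbit y hy
      exact ⟨tvS x1 * tvS x2, h⟩
  have hHx : ∀ x, bil x 8 = false → tvS x ∈ H := fun x hx => tv_fix hx
  have horb' : (MulAction.orbit H (16 : Fin 64)) = {y | bil y 8 = false ∧ y ≠ 0 ∧ y ≠ 8} := by
    ext y
    constructor
    · rintro ⟨s, rfl⟩
      have h8 : ((s : S) : Equiv.Perm (Fin 64)) 8 = 8 := s.2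
      refine ⟨?_, fun h => ?_, fun h => ?_⟩
      · refine tvS_comm_bil ?_
        have hc : Commute (tvS 16) (tvS 8) := Subtype.ext (Equiv.ext (by decide +kernel))
        have := hc.map (MulAut.conj (s : S)).toMonoidHom
        simp only [MulEquiv.coe_toMonoidHom, MulAut.conj_apply, tvS_conj, h8] at this
        exact this
      · change ((s : S) : Equiv.Perm (Fin 64)) 16 = 0 at h
        exact absurd ((Equiv.injective _) (h.trans (S_zero _).symm)) (by decide)
      · change ((s : S) : Equiv.Perm (Fin 64)) 16 = 8 at h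
        exact absurd ((Equiv.injective _) (h.trans h8.symm)) (by decide)
    · rintro ⟨h1, h2, h3⟩
      obtain ⟨x1, hx1, x2, hx2, h⟩ := orth_orbit y h1 h2 h3
      exact ⟨⟨tvS x1 * tvS x2, mul_mem (hHx x1 hx1) (hHx x2 hx2)⟩, h⟩
  have h63 : H.index = 63 := by
    rw [hH, MulAction.index_stabilizer, horb, Set.ncard_eq_toFinset_card']
    decide +kernel
  have h30 : (MulAction.stabilizer H (16 : Fin 64)).index = 30 := by
    rw [MulAction.index_stabilizer, horb', Set.ncard_eq_toFinset_card']
    decide +kernel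
  have hmap : centralizer ({tvS 8, tvS 16} : Set S) = (MulAction.stabilizer H (16 : Fin 64)).map H.subtype := by
    ext s
    simp only [mem_centralizer_iff, Set.mem_insert_iff, Set.mem_singleton_iff, forall_eq_or_imp, forall_eq]
    constructor
    · rintro ⟨h8, h16⟩
      exact ⟨⟨s, fix_of_comm (by decide) h8.symm⟩, fix_of_comm (by decide) h16.symm, rfl⟩
    · rintro ⟨t, ht, rfl⟩
      have h8 : ((t : S) : Equiv.Perm (Fin 64)) 8 = 8 := t.2
      have h16 : ((t : S) : Equiv.Perm (Fin 64)) 16 = 16 := ht
      have key : ∀ x : Fin 64, ((t : S) : Equiv.Perm (Fin 64)) x = x → tvS x * (t : S) = (t : S) * tvS x :=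
        fun x hx => by
          have := tvS_conj (t : S) x
          rw [hx] at this
          exact (mul_inv_eq_iff_eq_mul.1 this).symm
      exact ⟨key 8 h8, key 16 h16⟩
  rw [hmap, card_map_of_injective H.subtype_injective]
  have h1 := card_mul_index H
  have h2 := card_mul_index (MulAction.stabilizer H (16 : Fin 64))
  rw [h63, card_S] at h1
  rw [h30] at h2
  omega

end Cfsg.Agent.SpThreeCent.SixEnd
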