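import Cfsg.Agent.Lib.SpThreeCent.SixEnd.Model
import Cfsg.Agent.Lib.Sp6Mult.Model
import Cfsg.Agent.Lib.Classical.Symplectic

/-!
# The permutation model of `Sp₆(2)` is the symplectic group: order, transvections, simplicity
-/

set_option autoImplicit false
set_option maxRecDepth 20000

namespace Cfsg.Agent.SpThreeCent.SixEnd

open Matrix Subgroup
open Cfsg.Agent.Sp6Mult (V2 v2 mv2 enc reach2)

/-- The symplectic group over the field with two elements. -/
abbrev SpM : Type := ↥(Matrix.symplecticGroup (Fin 3) (ZMod 2))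

/-- The vector of a number. -/
def dec (a : Fin 64) : V2 :=
  Sum.elim (fun k => if a.val.testBit k.val then 1 else 0)
    (fun k => if a.val.testBit (3 + k.val) then 1 else 0)

/-- The number of a vector. -/
def encF (u : V2) : Fin 64 := ⟨enc u % 64, Nat.mod_lt _ (by norm_num)⟩

theorem dec_encF : ∀ u : V2, dec (encF u) = u := by decide +kernel

theorem encF_dec : ∀ a : Fin 64, encF (dec a) = a := by decide +kernel

theorem dec_nodeVec : ∀ i : Fin 7, dec (nodeVec i) = v2 i := by decide +kernel

theorem form_dec : ∀ a x : Fin 64,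
    Cfsg.sympForm 3 (ZMod 2) (dec a) (dec x) = if bil x a then 1 else 0 := by
  decide +kernel

theorem encF_add : ∀ a x : Fin 64, encF (dec a + dec x) = vadd a x := by decide +kernel

theorem tvSp_apply (x a : Fin 64) :
    encF (((Forms.SympStd.tv (dec x) (1 : ZMod 2) : SpM) : Matrix (Fin 3 ⊕ Fin 3) (Fin 3 ⊕ Fin 3) (ZMod 2)) *ᵥ
      dec a) = tvFun x a := by
  rw [Forms.SympStd.tv_mulVec, one_mul, form_dec, tvFun]
  split
  · rw [one_smul, encF_add]
  · rw [zero_smul, add_zero, encF_dec]

/-- The action on the numbers. -/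
def toPerm : SpM →* Equiv.Perm (Fin 64) where
  toFun A :=
    { toFun := fun a => encF ((A : Matrix _ _ (ZMod 2)) *ᵥ dec a)
      invFun := fun a => encF (((A⁻¹ : SpM) : Matrix _ _ (ZMod 2)) *ᵥ dec a)
      left_inv := fun a => by
        simp only
        rw [dec_encF, ← Forms.SympStd.mul_mulVec_sp, inv_mul_cancel]
        exact (congrArg encF (one_mulVec _)).trans (encF_dec a)
      right_inv := fun a => by
        simp only
        rw [dec_encF, ← Forms.SympStd.mul_mulVec_sp, mul_inv_cancel]
        exact (congrArg encF (one_mulVec _)).trans (encF_dec a) }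
  map_one' := Equiv.ext fun a => (congrArg encF (one_mulVec _)).trans (encF_dec a)
  map_mul' A B := Equiv.ext fun a => by
    simp only [Equiv.Perm.coe_mul, Equiv.coe_fn_mk, Function.comp_apply]
    rw [dec_encF, ← Forms.SympStd.mul_mulVec_sp]

theorem dec_toPerm (A : SpM) (a : Fin 64) :
    dec (toPerm A a) = (A : Matrix _ _ (ZMod 2)) *ᵥ dec a := dec_encF _

theorem toPerm_tv (x : Fin 64) : toPerm (Forms.SympStd.tv (dec x) 1) = tv x :=
  Equiv.ext fun a => tvSp_apply x a

theorem toPerm_injective : Function.Injective toPerm := fun A B h =>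
  Forms.SympStd.sp_ext fun v => by
    rw [← dec_encF v, ← dec_toPerm, ← dec_toPerm, h]

/-- The seven transvections generate the symplectic group. -/
theorem closure_nodes :
    Subgroup.closure (Set.range fun i => Forms.SympStd.tv (v2 i) (1 : ZMod 2)) = (⊤ : Subgroup SpM) := by
  set H := Subgroup.closure (Set.range fun i => Forms.SympStd.tv (v2 i) (1 : ZMod 2)) with hH
  have hgen : ∀ i, Forms.SympStd.tv (v2 i) (1 : ZMod 2) ∈ H := fun i => Subgroup.subset_closure ⟨i, rfl⟩
  have hfold : ∀ (w : List (Fin 7)) (x : V2), Forms.SympStd.tv x (1 : ZMod 2) ∈ H →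
      Forms.SympStd.tv (w.foldl (fun x k => mv2 k x) x) (1 : ZMod 2) ∈ H := by
    intro w
    induction w with
    | nil => exact fun x hx => hx
    | cons k w ih =>
      intro x hx
      refine ih (mv2 k x) ?_
      have e : mv2 k x = ((Forms.SympStd.tv (v2 k) (1 : ZMod 2) : SpM) : Matrix _ _ (ZMod 2)) *ᵥ x := by
        rw [Forms.SympStd.tv_mulVec, one_mul]; rfl
      rw [e, ← Classical.Symplectic.tv_conj]
      exact mul_mem (mul_mem (hgen k) hx) (inv_mem (hgen k))
  rw [eq_top_iff, ← Forms.SympStd.closure_tvSet_eq_top, Subgroup.closure_le]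
  rintro A ⟨w, c, -, hA⟩
  rw [show A = Forms.SympStd.tv w c from Subtype.ext hA, SetLike.mem_coe]
  rcases (show ∀ a : ZMod 2, a = 0 ∨ a = 1 by decide) c with rfl | rfl
  · rw [Classical.Symplectic.tv_zero]; exact one_mem _
  by_cases h0 : w = 0
  · rw [h0, show Forms.SympStd.tv (0 : V2) (1 : ZMod 2) = 1 from
      Forms.SympStd.sp_ext fun x => by rw [Forms.SympStd.tv_mulVec]; simp]
    exact one_mem _
  · rw [← reach2 _ h0]
    exact hfold _ _ (hgen _)

theorem range_toPerm : toPerm.range = S := by
  rw [MonoidHom.range_eq_map, ← closure_nodes, MonoidHom.map_closure, S, ← Set.range_comp]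
  congr 2
  funext i
  rw [Function.comp_apply, ← dec_nodeVec, toPerm_tv]

/-- The model is the symplectic group. -/
noncomputable def spEquiv : SpM ≃* S :=
  (MonoidHom.ofInjective toPerm_injective).trans (MulEquiv.subgroupCongr range_toPerm)

theorem card_S : Nat.card S = 1451520 := by
  rw [← Nat.card_congr spEquiv.toEquiv, Classical.Symplectic.natCard_sp (F := ZMod 2) (m := 3)]
  norm_num [Finset.prod_range_succ, ZMod.card]

theorem isSimpleGroup_S : IsSimpleGroup S := by
  have hc : Subgroup.center SpM = ⊥ := by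
    refine Subgroup.card_eq_one.1 ?_
    rw [Classical.Symplectic.natCard_center (by norm_num), ZMod.card]
    rfl
  haveI : IsSimpleGroup (Cfsg.PSp 3 (ZMod 2)) :=
    Classical.Symplectic.isSimpleGroup_PSp (by norm_num) (by norm_num)
  let e : Cfsg.PSp 3 (ZMod 2) ≃* S :=
    ((QuotientGroup.quotientMulEquivOfEq hc).trans QuotientGroup.quotientBot).trans spEquiv
  haveI : Nontrivial S := e.symm.toEquiv.nontrivial
  exact IsSimpleGroup.isSimpleGroup_of_surjective e.toMonoidHom e.surjective

/-- Every transvection lies in the model. -/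
theorem tv_mem (x : Fin 64) : tv x ∈ S := range_toPerm ▸ ⟨_, toPerm_tv x⟩

/-- Conjugation of transvections. -/
theorem tv_conj {σ : Equiv.Perm (Fin 64)} (hσ : σ ∈ S) (x : Fin 64) :
    σ * tv x * σ⁻¹ = tv (σ x) := by
  rw [← range_toPerm] at hσ
  obtain ⟨A, rfl⟩ := hσ
  rw [← toPerm_tv x, ← map_inv, ← map_mul, ← map_mul, Classical.Symplectic.tv_conj, ← dec_toPerm,
    toPerm_tv]

theorem closure_range_node : Subgroup.closure (Set.range node) = (⊤ : Subgroup S) := by
  refine map_injective S.subtype_injective ?_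
  rw [MonoidHom.map_closure, ← Set.range_comp, ← MonoidHom.range_eq_map, range_subtype]
  rfl

theorem node_sq (i : Fin 7) : node i * node i = 1 := Subtype.ext (Equiv.ext (tvFun_invol _))

/-- The matrix of the diagram as numbers. -/
def e7 (i j : Fin 7) : ℕ := CoxeterMatrix.E₇ i j

theorem node_comm_apply : ∀ i j : Fin 7, ∀ a : Fin 64, e7 i j ≠ 2 ∨
    tvFun (nodeVec i) (tvFun (nodeVec j) a) = tvFun (nodeVec j) (tvFun (nodeVec i) a) := by
  decide +kernel

theorem node_braid_apply : ∀ i j : Fin 7, ∀ a : Fin 64, e7 i j ≠ 3 ∨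
    tvFun (nodeVec i) (tvFun (nodeVec j) (tvFun (nodeVec i) a)) =
      tvFun (nodeVec j) (tvFun (nodeVec i) (tvFun (nodeVec j) a)) := by
  decide +kernel

theorem node_comm {i j : Fin 7} (h : CoxeterMatrix.E₇ i j = 2) : Commute (node i) (node j) :=
  Subtype.ext (Equiv.ext fun a => (node_comm_apply i j a).resolve_left (not_not_intro h))

theorem node_braid {i j : Fin 7} (h : CoxeterMatrix.E₇ i j = 3) :
    node i * node j * node i = node j * node i * node j :=
  Subtype.ext (Equiv.ext fun a => (node_braid_apply i j a).resolve_left (not_not_intro h))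

end Cfsg.Agent.SpThreeCent.SixEnd
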