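import Cfsg.Agent.Lib.SpThreeCent.SixEnd.Trees

/-!
# The endgame: checks of the stages
-/

set_option autoImplicit false
set_option maxRecDepth 100000

namespace Cfsg.Agent.SpThreeCent.SixEnd

theorem stageC_ok : stageOk clC noBase 2 treeC stC = true := by decide +kernel

theorem threeC_ok : threeOk (rootY (stC.map Prod.fst)) stC 34663841921 34630288513 1 = true := by decide +kernel

end Cfsg.Agent.SpThreeCent.SixEnd
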