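import Cfsg.Agent.Lib.SpThreeCent.SixEnd.Trees

/-!
# The endgame: checks of the stages
-/

set_option autoImplicit false
set_option maxRecDepth 100000

namespace Cfsg.Agent.SpThreeCent.SixEnd

theorem stageD_ok : stageOk clD noBase 2 treeD stD = true := by decide +kernel

theorem threeD_ok : threeOk (rootY (stD.map Prod.fst)) stD 38925256345 34630420121 1 = true := by decide +kernel

theorem stageR_ok : stageOk clR noBase 1 treeR stR = true := by decide +kernel

theorem threeR_ok : threeOk (rootY (stR.map Prod.fst)) stR 38925254785 34630418561 1 = true := by decide +kernel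

end Cfsg.Agent.SpThreeCent.SixEnd
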