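import Cfsg.Agent.Lib.SpThreeCent.SixEnd.Trees

/-!
# The endgame: checks of the stages
-/

set_option autoImplicit false
set_option maxRecDepth 100000

namespace Cfsg.Agent.SpThreeCent.SixEnd

theorem stageE0_ok : stageOk clE noBase 1 (.mk 38925254785 []) [(oneC, 0), (repC 3, 0)] = true := by decide +kernel

theorem stageE1_ok : stageOk clE noBase 1 (.mk 38925254785 []) [(oneC, 0), (repC 3, 1)] = true := by decide +kernel

theorem stageE_ok : stageOk clE baseE 1 (.mk 34664104065 []) stE = true := by decide +kernel

theorem threeE_ok : threeOk (rootY (stE.map Prod.fst)) stE 34630549633 34630287497 1 = true := by decide +kernel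

end Cfsg.Agent.SpThreeCent.SixEnd
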