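import Cfsg.Agent.Lib.SpThreeCent.SixEnd.CheckB
import Cfsg.Agent.Lib.SpThreeCent.SixEnd.CheckC
import Cfsg.Agent.Lib.SpThreeCent.SixEnd.CheckD
import Cfsg.Agent.Lib.SpThreeCent.SixEnd.CheckE

/-!
# The endgame: the model is everything
-/

set_option autoImplicit false
set_option maxRecDepth 100000

namespace Cfsg.Agent.SpThreeCent.SixEnd

universe u

variable {G : Type u} [Group G] {f : S →* G}

attribute [local irreducible] clsC mulC commC commF invL invLit

theorem wf_of_all {U : List ℕ} (h : ∀ a ∈ U, a = oneC ∨ a ∈ invLit) : WF U := by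
  intro a ha
  rcases h a ha with rfl | ha
  · exact ⟨1, codeS_one, one_mul 1⟩
  · exact exists_of_mem_invL (invL_eq ▸ ha)

theorem yOk_rootY {U : List ℕ} (hU : WF U) : YOk (rootY U) U where
  sound a ha := by
    obtain ⟨ha, hc⟩ := List.mem_filter.1 ha
    obtain ⟨s, rfl, hs⟩ := exists_of_mem_invL (invL_eq ▸ ha)
    exact ⟨s, rfl, hs, fun u hu => ((commF_iff u s).1 (List.all_eq_true.1 hc _ hu)).symm⟩
  full s hs hs1 hsU := by
    refine List.mem_filter.2 ⟨invL_eq ▸ mem_invL hs hs1, List.all_eq_true.2 fun b hb => ?_⟩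
    obtain ⟨u, rfl, -⟩ := hU b hb
    exact (commF_iff u s).2 (hsU u hb).symm

theorem baseSound_no : BaseSound f noBase := fun _ _ h => nomatch h

theorem stage_of_ok [Finite G] (D : Hyp f) {cl : List ℕ → Bool} (hcl : ClSound f cl)
    {base : List (ℕ × ℕ) → Bool} (hbase : BaseSound f base) {d : ℕ} {t : Tr} {N : List (ℕ × ℕ)}
    (h : stageOk cl base d t N = true) : Stage f N ∧ WF (N.map Prod.fst) := by
  simp only [stageOk, Bool.and_eq_true, List.contains_iff_mem, List.all_eq_true, Bool.or_eq_true,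
    beq_iff_eq] at h
  obtain ⟨⟨h1, h2⟩, h3⟩ := h
  have hN : WF (N.map Prod.fst) := wf_of_all fun a ha => by
    obtain ⟨p, hp, rfl⟩ := List.mem_map.1 ha
    exact h2 p hp
  exact ⟨stage_of_check D hcl hbase d t _ N hN h1 (yOk_rootY hN) h3, hN⟩

theorem inside_of_ok [Finite G] (D : Hyp f) {cl : List ℕ → Bool} (hcl : ClSound f cl)
    {base : List (ℕ × ℕ) → Bool} (hbase : BaseSound f base) {d : ℕ} {t : Tr} {N : List (ℕ × ℕ)}
    {x y m : ℕ} (h : stageOk cl base d t N = true)
    (h' : threeOk (rootY (N.map Prod.fst)) N x y m = true) : Inside f (N.map Prod.fst) := by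
  obtain ⟨hst, hN⟩ := stage_of_ok D hcl hbase h
  exact inside_of_stage D hst hN (yOk_rootY hN) h'

theorem sq_of_code {s : S} {a : ℕ} (hs : codeS s = a) {U : List ℕ} (hU : WF U) (ha : a ∈ U) : s * s = 1 := by
  obtain ⟨s', e, h⟩ := hU a ha
  obtain rfl := codeS_injective (e.trans hs.symm)
  exact h

theorem exists_conj_of_cls {u : S} (hu : u * u = 1) (i : Fin 4) (h : clsC (codeS u) = i.val) :
    ∃ k : S, k * rep i * k⁻¹ = u := by
  by_cases h1 : u = 1
  · rw [h1, codeS_one, clsC_one] at h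
    omega
  obtain ⟨k, j, hj, e⟩ := exists_rep_cls hu h1
  obtain rfl : j = i := Fin.ext (hj.trans h)
  exact ⟨k, e⟩

theorem conj_mem_range {k : S} {g : G} (h : (f k)⁻¹ * g * f k ∈ f.range) : g ∈ f.range := by
  have := mul_mem (mul_mem (⟨k, rfl⟩ : f k ∈ f.range) h) (inv_mem (⟨k, rfl⟩ : f k ∈ f.range))
  rwa [show f k * ((f k)⁻¹ * g * f k) * (f k)⁻¹ = g by group] at this

theorem commute_back {k s : S} {g : G} (h : Commute g (f (k * s * k⁻¹))) :
    Commute ((f k)⁻¹ * g * f k) (f s) := by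
  rw [map_mul, map_mul, map_inv] at h
  have := h.map (MulAut.conj (f k)⁻¹).toMonoidHom
  simp only [MulEquiv.coe_toMonoidHom, MulAut.conj_apply, inv_inv] at this
  rwa [show (f k)⁻¹ * (f k * f s * (f k)⁻¹) * f k = f s by group] at this

/-- A point pair is the image of the standard one. -/
theorem exists_map_pair {x y : Fin 64} (hx : x ≠ 0) (hy : y ≠ 0) (h : x ≠ y) (o : bil x y = false) :
    ∃ k : S, (k : Equiv.Perm (Fin 64)) 8 = x ∧ (k : Equiv.Perm (Fin 64)) 16 = y := by
  obtain ⟨x1, x2, h1⟩ := point_orbit x hx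
  set k1 : S := tvS x1 * tvS x2 with hk1
  have hk : (k1 : Equiv.Perm (Fin 64)) 8 = x := h1
  set y' := ((k1⁻¹ : S) : Equiv.Perm (Fin 64)) y with hy'
  have hx' : ((k1⁻¹ : S) : Equiv.Perm (Fin 64)) x = 8 := by
    rw [← hk]
    exact Equiv.symm_apply_apply _ 8
  have o' : bil y' 8 = false := by
    rw [← hx', bil_symm]
    exact bil_of_apply k1⁻¹ o
  have hne : y' ≠ 8 := fun e => h ((Equiv.injective _) (hx'.trans e.symm))
  obtain ⟨a, ha, b, hb, hab⟩ := orth_orbit y' o' (apply_ne_zero _ hy) hne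
  refine ⟨k1 * (tvS a * tvS b), ?_, ?_⟩
  · change (k1 : Equiv.Perm (Fin 64)) (tvFun a (tvFun b 8)) = x
    rw [show tvFun b 8 = 8 from tv_fix hb, show tvFun a 8 = 8 from tv_fix ha, hk]
  · change (k1 : Equiv.Perm (Fin 64)) (tvFun a (tvFun b 16)) = y
    rw [hab, hy']
    exact Equiv.apply_symm_apply _ y

theorem clSound_twoTr (D : Hyp f) : ClSound f twoTr := by
  intro U hU h g hg
  simp only [twoTr, List.any_eq_true, Bool.and_eq_true, Bool.not_eq_true', beq_iff_eq,
    beq_eq_false_iff_ne] at h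
  obtain ⟨a, ha, ha0, b, hb, ⟨hb0, hab⟩, hc⟩ := h
  obtain ⟨u, rfl, hu⟩ := hU a ha
  obtain ⟨v, rfl, hv⟩ := hU b hb
  obtain ⟨k, hk⟩ := exists_conj_of_cls hu 0 ha0
  obtain ⟨l, hl⟩ := exists_conj_of_cls hv 0 hb0
  rw [show rep 0 = tvS 8 from rfl, tvS_conj] at hk hl
  subst hk hl
  obtain ⟨m, hm8, hm16⟩ := exists_map_pair (apply_ne_zero k (by decide)) (apply_ne_zero l (by decide))
    (fun e => hab (by rw [e])) (tvS_comm_bil ((commF_iff _ _).1 hc))
  have g1 := hg _ ha
  have g2 := hg _ hb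
  rw [← hm8, ← tvS_conj] at g1
  rw [← hm16, ← tvS_conj] at g2
  exact conj_mem_range (k := m) (D.pair _ (commute_back g1).eq (commute_back g2).eq)

theorem hasC_sound {i : Fin 4} (h : ∀ g : G, Commute g (f (rep i)) → g ∈ f.range) :
    ClSound f (hasC i.val) := by
  intro U hU hc g hg
  simp only [hasC, List.any_eq_true, beq_iff_eq] at hc
  obtain ⟨a, ha, ha0⟩ := hc
  obtain ⟨u, rfl, hu⟩ := hU a ha
  obtain ⟨k, hk⟩ := exists_conj_of_cls hu i ha0
  subst hk
  exact conj_mem_range (k := k) (h _ (commute_back (hg _ ha)))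

theorem clSound_or {p q : List ℕ → Bool} (hp : ClSound f p) (hq : ClSound f q) :
    ClSound f fun U => p U || q U := by
  intro U hU h
  rcases Bool.or_eq_true _ _ ▸ h with h | h
  exacts [hp U hU h, hq U hU h]

theorem six_point : ∀ x : Fin 64, commC (tvC x.val) (repC 2) = true →
    clsC (mulC (tvC x.val) (repC 2)) = 1 → x = 8 ∨ x = 16 ∨ x = 24 := by
  decide +kernel

theorem six_move : ∀ x : Fin 64, x = 8 ∨ x = 16 ∨ x = 24 →
    ∃ a b : Fin 64, commC (mulC (tvC a.val) (tvC b.val)) (repC 2) = true ∧ tvFun a (tvFun b 8) = x := by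
  decide +kernel

theorem clSound_sixTr [Finite G] (D : Hyp f) : ClSound f sixTr := by
  have hB : Inside f (stB.map Prod.fst) :=
    inside_of_ok D (clSound_twoTr D) baseSound_no stageB_ok threeB_ok
  have key : ∀ g : G, Commute g (f (tvS 8)) → Commute g (f (rep 2)) → g ∈ f.range := by
    intro g g1 g2
    refine hB g fun u hu => ?_
    have e8 : codeS (tvS 8) = 34630287497 := (codeS_rep 0).trans rfl
    have e2 : codeS (rep 2) = 34630288017 := codeS_rep 2
    have e3 : codeS (tvS 8 * rep 2) = 34630288025 := by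
      rw [codeS_mul, e8, e2]
      decide +kernel
    simp only [stB, List.map_cons, List.map_nil, List.mem_cons, List.not_mem_nil, or_false] at hu
    rcases hu with hu | hu | hu | hu
    · rw [show u = 1 from codeS_injective (hu.trans codeS_one.symm), map_one]
      exact Commute.one_right g
    · rwa [codeS_injective (hu.trans e8.symm)]
    · rwa [codeS_injective (hu.trans e2.symm)]
    · rw [codeS_injective (hu.trans e3.symm), map_mul]
      exact g1.mul_right g2
  intro U hU h g hg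
  simp only [sixTr, mulF_eq, List.any_eq_true, Bool.and_eq_true, beq_iff_eq] at h
  obtain ⟨a, ha, ha0, b, hb, ⟨hb2, hc⟩, hab⟩ := h
  obtain ⟨u, rfl, hu⟩ := hU a ha
  obtain ⟨v, rfl, hv⟩ := hU b hb
  obtain ⟨l, hl⟩ := exists_conj_of_cls hv 2 hb2
  have huv : Commute u v := (commF_iff u v).1 hc
  have hsq : u * v * (u * v) = 1 := by
    rw [show u * v * (u * v) = u * (v * u) * v by group, ← huv.eq,
      show u * (u * v) * v = u * u * (v * v) by group, hu, hv, one_mul]
  set u' := l⁻¹ * u * l with hu'def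
  have hu' : u' * u' = 1 := by
    rw [hu'def, show l⁻¹ * u * l * (l⁻¹ * u * l) = l⁻¹ * (u * u) * l by group, hu, mul_one, inv_mul_cancel]
  have hcls : clsC (codeS u') = 0 := by
    have := clsC_conj l⁻¹ hu
    rw [inv_inv] at this
    exact this.trans ha0
  obtain ⟨k, hk⟩ := exists_conj_of_cls hu' 0 hcls
  rw [show rep 0 = tvS 8 from rfl, tvS_conj] at hk
  set x := (k : Equiv.Perm (Fin 64)) 8 with hxdef
  have hr : l⁻¹ * v * l = rep 2 := by rw [← hl]; group
  have hxc : commC (tvC x.val) (repC 2) = true := by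
    rw [← codeS_tvS, ← show codeS (rep 2) = repC 2 from codeS_rep 2, hk, ← hr]
    refine (commC_iff _ _).2 ?_
    have := huv.map (MulAut.conj l⁻¹).toMonoidHom
    simpa only [MulEquiv.coe_toMonoidHom, MulAut.conj_apply, inv_inv] using this
  have hx1 : clsC (mulC (tvC x.val) (repC 2)) = 1 := by
    rw [← codeS_tvS, ← show codeS (rep 2) = repC 2 from codeS_rep 2, ← codeS_mul, hk, ← hr, hu'def,
      show l⁻¹ * u * l * (l⁻¹ * v * l) = l⁻¹ * (u * v) * l⁻¹⁻¹ by group, clsC_conj _ hsq, codeS_mul]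
    exact hab
  obtain ⟨a', b', hc', hx'⟩ := six_move x (six_point x hxc hx1)
  set s : S := tvS a' * tvS b' with hsdef
  have hs8 : s * tvS 8 * s⁻¹ = tvS x := by rw [tvS_conj]; exact congrArg tvS hx'
  have hsc : Commute s (rep 2) := by
    refine (commC_iff _ _).1 ?_
    rw [codeS_rep, hsdef, codeS_mul, codeS_tvS, codeS_tvS]
    exact hc'
  have e1 : l * s * tvS 8 * (l * s)⁻¹ = u := by
    rw [show l * s * tvS 8 * (l * s)⁻¹ = l * (s * tvS 8 * s⁻¹) * l⁻¹ by group, hs8, hk, hu'def]
    group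
  have e2 : l * s * rep 2 * (l * s)⁻¹ = v := by
    rw [show l * s * rep 2 * (l * s)⁻¹ = l * (s * rep 2 * s⁻¹) * l⁻¹ by group, hsc.eq, mul_inv_cancel_right,
      hl]
  exact conj_mem_range (k := l * s)
    (key _ (commute_back (e1.symm ▸ hg _ ha)) (commute_back (e2.symm ▸ hg _ hb)))

theorem rep_inside {N : List (ℕ × ℕ)} {i : Fin 4} (h : Inside f (N.map Prod.fst))
    (hN : ∀ a ∈ N.map Prod.fst, a = oneC ∨ a = repC i.val) :
    ∀ g : G, Commute g (f (rep i)) → g ∈ f.range := by
  intro g hg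
  refine h g fun u hu => ?_
  rcases hN _ hu with e | e
  · rw [show u = 1 from codeS_injective (e.trans codeS_one.symm), map_one]
    exact Commute.one_right g
  · rwa [codeS_injective (e.trans (codeS_rep i).symm)]

theorem stage_conj {N : List (ℕ × ℕ)} {M : List (ℕ × ℕ)} (k : S) (h : Stage f N)
    (hM : ∀ p ∈ N, ∀ u : S, codeS u = p.1 → (codeS (k * u * k⁻¹), p.2) ∈ M) : Stage f M := by
  intro v hv hvM
  refine conj_mem_range (k := k) (h _ ?_ fun p hp u hu => ?_)
  · rw [show (f k)⁻¹ * v * f k * ((f k)⁻¹ * v * f k) = (f k)⁻¹ * (v * v) * f k by group, hv, mul_one,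
      inv_mul_cancel]
  obtain ⟨h1, h2⟩ := hvM _ (hM p hp u hu) _ rfl
  refine ⟨commute_back h1, ?_⟩
  have := h2.conj (f k)⁻¹
  simp only [inv_inv, map_mul, map_inv] at this
  rwa [show (f k)⁻¹ * (v * (f k * f u * (f k)⁻¹)) * f k = (f k)⁻¹ * v * f k * f u by group] at this

theorem baseSound_E [Finite G] (D : Hyp f) (hcl : ClSound f clE) : BaseSound f baseE := by
  intro N hN h
  unfold baseE at h
  split at h
  case h_2 => exact absurd h (by simp)
  rename_i a p b q
  simp only [Bool.and_eq_true, Bool.or_eq_true, beq_iff_eq] at h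
  obtain ⟨⟨⟨rfl, hb⟩, rfl⟩, hq⟩ := h
  obtain ⟨s, rfl, hs⟩ := hN b (by simp)
  obtain ⟨k, rfl⟩ := exists_conj_of_cls hs 3 hb
  refine stage_conj k (N := [(oneC, 0), (repC 3, q)]) ?_ fun p hp u hu => ?_
  · rcases hq with rfl | rfl
    exacts [(stage_of_ok D hcl baseSound_no stageE0_ok).1, (stage_of_ok D hcl baseSound_no stageE1_ok).1]
  · simp only [List.mem_cons, List.not_mem_nil, or_false] at hp
    rcases hp with rfl | rfl
    · rw [show u = 1 from codeS_injective (hu.trans codeS_one.symm), mul_one, mul_inv_cancel, codeS_one]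
      exact List.mem_cons_self
    · rw [show u = rep 3 from codeS_injective (hu.trans (codeS_rep 3).symm)]
      exact List.mem_cons_of_mem _ List.mem_cons_self

/-- The endgame. -/
theorem surjective {G : Type u} [Group G] [Finite G] {f : S →* G} (D : Hyp f) : Function.Surjective f := by
  have hC : ClSound f clC := clSound_or (clSound_twoTr D) (clSound_sixTr D)
  have hD : ClSound f clD := clSound_or hC (hasC_sound (i := 0)
    (rep_inside (inside_of_ok D hC baseSound_no stageC_ok threeC_ok) (by decide +kernel)))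
  have hR : ClSound f clR := clSound_or hD (hasC_sound (i := 1)
    (rep_inside (inside_of_ok D hD baseSound_no stageD_ok threeD_ok) (by decide +kernel)))
  have hE : ClSound f clE := clSound_or hR (hasC_sound (i := 2)
    (rep_inside (inside_of_ok D hR baseSound_no stageR_ok threeR_ok) (by decide +kernel)))
  have h := inside_of_ok D hE (baseSound_E D hE) stageE_ok threeE_ok
  intro g
  obtain ⟨s, hs⟩ := h g fun u hu => by
    simp only [stE, List.map_cons, List.map_nil, List.mem_cons, List.not_mem_nil, or_false] at hu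
    rw [show u = 1 from codeS_injective (hu.trans codeS_one.symm), map_one]
    exact Commute.one_right g
  exact ⟨s, hs⟩

end Cfsg.Agent.SpThreeCent.SixEnd
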