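import Cfsg.Agent.Lib.SpThreeCent.SixEnd.Facts

/-!
# `Sp₆(2)` inside a finite group: the hypothesis of the endgame

The representatives of the four classes of involutions of the model and the hypothesis on a homomorphism
of the model under which it is surjective.
-/

set_option autoImplicit false

namespace Cfsg.Agent.SpThreeCent.SixEnd

universe u

/-- The transvection with centre `x` as an element of the model. -/
def tvS (x : Fin 64) : S := ⟨tv x, tv_mem x⟩

/-- Representatives of the four classes of involutions. -/
def rep : Fin 4 → S :=
  ![tvS 8, tvS 8 * tvS 16, tvS 8 * tvS 16 * tvS 24, tvS 8 * tvS 16 * tvS 20]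

/-- The hypothesis of the endgame. -/
structure Hyp {G : Type u} [Group G] (f : S →* G) : Prop where
  inj : Function.Injective f
  /-- the elements of order three do not move outside -/
  move : ∀ σ : S, orderOf σ = 3 → ∀ g : G, g * f σ * g⁻¹ ∈ f.range → g ∈ f.range
  /-- the centralizer of two commuting transvections lies inside -/
  pair : ∀ g : G, g * f (tvS 8) = f (tvS 8) * g → g * f (tvS 16) = f (tvS 16) * g → g ∈ f.range
  /-- the four classes stay apart -/
  ne : ∀ i j : Fin 4, ∀ g : G, g * f (rep i) * g⁻¹ = f (rep j) → i = j

end Cfsg.Agent.SpThreeCent.SixEnd
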