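import Cfsg.Agent.Lib.SpThreeCent.SixEnd.Trees

/-!
# The endgame: checks of the stages
-/

set_option autoImplicit false
set_option maxRecDepth 100000

namespace Cfsg.Agent.SpThreeCent.SixEnd

theorem stageB_ok : stageOk twoTr noBase 3 treeB stB = true := by decide +kernel

theorem threeB_ok : threeOk (rootY (stB.map Prod.fst)) stB 38925255809 34630419585 1 = true := by decide +kernel

end Cfsg.Agent.SpThreeCent.SixEnd
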