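import Cfsg.Agent.Lib.SpThreeCent.SixEnd.Facts

/-!
# `Sp₆(2)`: elements as numbers

An element of the model is recorded by the images of the six basis vectors, six bits each.
-/

set_option autoImplicit false
set_option maxRecDepth 100000

namespace Cfsg.Agent.SpThreeCent.SixEnd

/-- Six numbers below 64 in one. -/
def pack6 (a b c d e g : ℕ) : ℕ := a + 64 * (b + 64 * (c + 64 * (d + 64 * (e + 64 * g))))

/-- One of the six numbers. -/
def im (c k : ℕ) : ℕ := (c >>> (6 * k)) &&& 63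

/-- A bit. -/
def bitN (y k : ℕ) : ℕ := (y >>> k) &&& 1

/-- The image of a vector. -/
def ap (c y : ℕ) : ℕ :=
  (bitN y 0 * im c 0) ^^^ (bitN y 1 * im c 1) ^^^ (bitN y 2 * im c 2) ^^^
    (bitN y 3 * im c 3) ^^^ (bitN y 4 * im c 4) ^^^ (bitN y 5 * im c 5)

/-- The composite. -/
def mulC (c d : ℕ) : ℕ :=
  pack6 (ap c (im d 0)) (ap c (im d 1)) (ap c (im d 2)) (ap c (im d 3)) (ap c (im d 4)) (ap c (im d 5))

/-- The identity. -/
def oneC : ℕ := pack6 1 2 4 8 16 32

/-- The parity of a three bit number. -/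
def parN (n : ℕ) : ℕ := (n ^^^ (n >>> 1) ^^^ (n >>> 2)) &&& 1

/-- The form. -/
def bilN (x y : ℕ) : ℕ := parN ((x &&& 7) &&& (y >>> 3)) ^^^ parN ((y &&& 7) &&& (x >>> 3))

/-- The image under a transvection. -/
def tvN (x y : ℕ) : ℕ := y ^^^ (bilN x y * x)

/-- A transvection. -/
def tvC (x : ℕ) : ℕ := pack6 (tvN x 1) (tvN x 2) (tvN x 4) (tvN x 8) (tvN x 16) (tvN x 32)

/-- The number of a permutation. -/
def code (σ : Equiv.Perm (Fin 64)) : ℕ :=
  pack6 (σ 1).val (σ 2).val (σ 4).val (σ 8).val (σ 16).val (σ 32).val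

/-- Two numbers commute as maps. -/
def commC (c d : ℕ) : Bool :=
  (ap c (im d 0) == ap d (im c 0)) && (ap c (im d 1) == ap d (im c 1)) &&
    (ap c (im d 2) == ap d (im c 2)) && (ap c (im d 3) == ap d (im c 3)) &&
    (ap c (im d 4) == ap d (im c 4)) && (ap c (im d 5) == ap d (im c 5))

theorem code_tv : ∀ x : Fin 64, code (tv x) = tvC x.val := by decide +kernel

theorem code_one : code 1 = oneC := by decide +kernel

theorem im_pack6 {a b c d e g : ℕ} (ha : a < 64) (hb : b < 64) (hc : c < 64) (hd : d < 64)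
    (he : e < 64) (hg : g < 64) :
    im (pack6 a b c d e g) 0 = a ∧ im (pack6 a b c d e g) 1 = b ∧ im (pack6 a b c d e g) 2 = c ∧
      im (pack6 a b c d e g) 3 = d ∧ im (pack6 a b c d e g) 4 = e ∧ im (pack6 a b c d e g) 5 = g := by
  have h63 : ∀ n k : ℕ, im n k = n / 2 ^ (6 * k) % 64 := fun n k => by
    rw [im, Nat.shiftRight_eq_div_pow, show (63 : ℕ) = 2 ^ 6 - 1 from rfl,
      Nat.and_two_pow_sub_one_eq_mod]
  simp only [h63, pack6]
  norm_num
  omega

/-- The action of the model is linear. -/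
theorem vadd_apply {σ : Equiv.Perm (Fin 64)} (hσ : σ ∈ S) :
    ∀ a b, σ (vadd a b) = vadd (σ a) (σ b) := by
  induction hσ using Subgroup.closure_induction with
  | mem x hx =>
    obtain ⟨i, rfl⟩ := hx
    exact (show ∀ i : Fin 7, ∀ a b : Fin 64,
      tvFun (nodeVec i) (vadd a b) = vadd (tvFun (nodeVec i) a) (tvFun (nodeVec i) b) by
        decide +kernel) i
  | one => exact fun a b => rfl
  | mul x y _ _ hx hy => exact fun a b => by rw [Equiv.Perm.mul_apply, hy, hx]; rfl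
  | inv x _ hx =>
    intro a b
    apply x.injective
    rw [hx]
    simp

/-- A vector as a combination of the basis. -/
def comb (g : Fin 64 → Fin 64) (y : Fin 64) : Fin 64 :=
  let t := fun k : ℕ => if bitN y.val k = 1 then g ⟨2 ^ k % 64, Nat.mod_lt _ (by norm_num)⟩ else 0
  vadd (vadd (vadd (vadd (vadd (t 0) (t 1)) (t 2)) (t 3)) (t 4)) (t 5)

theorem comb_id : ∀ y : Fin 64, comb id y = y := by decide +kernel

theorem apply_zero {σ : Equiv.Perm (Fin 64)} (hσ : σ ∈ S) : σ 0 = 0 := by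
  have h := vadd_apply hσ 0 0
  rw [show vadd 0 0 = (0 : Fin 64) from rfl] at h
  exact h.trans ((show ∀ a : Fin 64, vadd a a = 0 by decide +kernel) _)

theorem apply_comb {σ : Equiv.Perm (Fin 64)} (hσ : σ ∈ S) (y : Fin 64) : σ y = comb σ y := by
  conv_lhs => rw [← comb_id y]
  simp only [comb, vadd_apply hσ, apply_ite σ, apply_zero hσ, id_eq]

theorem vadd_val (a b : Fin 64) : (vadd a b).val = a.val ^^^ b.val :=
  Nat.mod_eq_of_lt (Nat.xor_lt_two_pow (n := 6) a.isLt b.isLt)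

theorem bitN_cases (y k : ℕ) : bitN y k = 0 ∨ bitN y k = 1 := by
  have : bitN y k ≤ 1 := Nat.and_le_right
  omega

theorem val_term (c : Prop) [Decidable c] (x : Fin 64) :
    (if c then x else 0).val = if c then x.val else 0 := by
  split <;> rfl

theorem mul_bit {b : ℕ} (hb : b = 0 ∨ b = 1) (x : ℕ) : b * x = if b = 1 then x else 0 := by
  rcases hb with rfl | rfl <;> simp

theorem ap_code {σ : Equiv.Perm (Fin 64)} (hσ : σ ∈ S) (y : Fin 64) :
    ap (code σ) y.val = (σ y).val := by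
  obtain ⟨h0, h1, h2, h3, h4, h5⟩ := im_pack6 (σ 1).isLt (σ 2).isLt (σ 4).isLt (σ 8).isLt
    (σ 16).isLt (σ 32).isLt
  rw [apply_comb hσ]
  simp only [comb, vadd_val, val_term, ap, code, h0, h1, h2, h3, h4, h5,
    mul_bit (bitN_cases _ _)]
  rfl

theorem im_code (σ : Equiv.Perm (Fin 64)) :
    im (code σ) 0 = (σ 1).val ∧ im (code σ) 1 = (σ 2).val ∧ im (code σ) 2 = (σ 4).val ∧
      im (code σ) 3 = (σ 8).val ∧ im (code σ) 4 = (σ 16).val ∧ im (code σ) 5 = (σ 32).val :=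
  im_pack6 (σ 1).isLt (σ 2).isLt (σ 4).isLt (σ 8).isLt (σ 16).isLt (σ 32).isLt

theorem code_mul {σ τ : Equiv.Perm (Fin 64)} (hσ : σ ∈ S) :
    code (σ * τ) = mulC (code σ) (code τ) := by
  obtain ⟨h0, h1, h2, h3, h4, h5⟩ := im_code τ
  simp only [mulC, h0, h1, h2, h3, h4, h5, ap_code hσ]
  rfl

theorem code_injective {σ τ : Equiv.Perm (Fin 64)} (hσ : σ ∈ S) (hτ : τ ∈ S)
    (h : code σ = code τ) : σ = τ :=
  Equiv.ext fun y => Fin.ext (by rw [← ap_code hσ, ← ap_code hτ, h])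

/-- The number of an element of the model. -/
def codeS (σ : S) : ℕ := code σ.1

theorem codeS_mul (σ τ : S) : codeS (σ * τ) = mulC (codeS σ) (codeS τ) := code_mul σ.2

theorem codeS_injective : Function.Injective codeS := fun σ τ h =>
  Subtype.ext (code_injective σ.2 τ.2 h)

theorem codeS_one : codeS 1 = oneC := code_one

theorem commC_iff (σ τ : S) : commC (codeS σ) (codeS τ) = true ↔ Commute σ τ := by
  obtain ⟨h0, h1, h2, h3, h4, h5⟩ := im_code σ.1
  obtain ⟨k0, k1, k2, k3, k4, k5⟩ := im_code τ.1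
  simp only [commC, codeS, h0, h1, h2, h3, h4, h5, k0, k1, k2, k3, k4, k5, ap_code σ.2, ap_code τ.2,
    Bool.and_eq_true, beq_iff_eq, Fin.val_inj]
  constructor
  · rintro ⟨⟨⟨⟨⟨e0, e1⟩, e2⟩, e3⟩, e4⟩, e5⟩
    refine Subtype.ext (code_injective (σ * τ).2 (τ * σ).2 ?_)
    simp only [code, Subgroup.coe_mul, Equiv.Perm.mul_apply, e0, e1, e2, e3, e4, e5]
  · intro h
    have e := fun y => Equiv.congr_fun (congrArg Subtype.val h.eq) y
    exact ⟨⟨⟨⟨⟨e 1, e 2⟩, e 4⟩, e 8⟩, e 16⟩, e 32⟩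

end Cfsg.Agent.SpThreeCent.SixEnd
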