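import Cfsg.Agent.Lib.SpThreeCent.SixEnd.Classes
import Cfsg.Agent.Lib.SpThreeCent.SixEnd.Stab

/-!
# `Sp₆(2)`: the list of the involutions and their classes

An involution is a product of one, two or three pairwise orthogonal transvections. The class is read off
from the rank of `s - 1` and from the form.
-/

set_option autoImplicit false
set_option maxRecDepth 100000

namespace Cfsg.Agent.SpThreeCent.SixEnd

/-- The displacement of a basis vector. -/
def difC (c k e : ℕ) : ℕ := Nat.xor (Nat.land (Nat.shiftRight c k) 63) e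

/-- Reduction by one vector. -/
def redX (b x : ℕ) : ℕ := bif Nat.ble (Nat.xor x b) x then Nat.xor x b else x

/-- One for a nonzero number. -/
def nzC (x : ℕ) : ℕ := bif Nat.beq x 0 then 0 else 1

/-- The rank of three vectors. -/
def rank3C (a b c : ℕ) : ℕ :=
  Nat.add (nzC a) (Nat.add (nzC (redX a b)) (nzC (redX (redX a b) (redX a c))))

/-- The rank of four vectors. -/
def rank4C (a b c d : ℕ) : ℕ := Nat.add (nzC a) (rank3C (redX a b) (redX a c) (redX a d))

/-- The rank of five vectors. -/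
def rank5C (a b c d e : ℕ) : ℕ := Nat.add (nzC a) (rank4C (redX a b) (redX a c) (redX a d) (redX a e))

/-- The rank of six vectors. -/
def rank6C (a b c d e g : ℕ) : ℕ :=
  Nat.add (nzC a) (rank5C (redX a b) (redX a c) (redX a d) (redX a e) (redX a g))

/-- The rank of the element minus one. -/
def rankC (c : ℕ) : ℕ :=
  rank6C (difC c 0 1) (difC c 6 2) (difC c 12 4) (difC c 18 8) (difC c 24 16) (difC c 30 32)

/-- Whether every vector is orthogonal to its image. -/
def altC (c : ℕ) : Bool :=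
  Nat.beq (Nat.land (Nat.shiftRight c 3) 1) 0 && Nat.beq (Nat.land (Nat.shiftRight c 10) 1) 0 &&
    Nat.beq (Nat.land (Nat.shiftRight c 17) 1) 0 && Nat.beq (Nat.land (Nat.shiftRight c 18) 1) 0 &&
    Nat.beq (Nat.land (Nat.shiftRight c 25) 1) 0 && Nat.beq (Nat.land (Nat.shiftRight c 32) 1) 0

/-- The class of an involution; `4` for the identity. -/
def clsC (c : ℕ) : ℕ :=
  bif Nat.beq c oneC then 4 else bif altC c then 2 else
    bif Nat.beq (rankC c) 1 then 0 else bif Nat.beq (rankC c) 2 then 1 else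
      bif Nat.beq (rankC c) 3 then 3 else 5

/-- The nonzero vectors. -/
def nzL : List ℕ := List.range' 1 63

/-- The pairs of orthogonal points. -/
def pairT : List (ℕ × ℕ) :=
  nzL.flatMap fun a => (nzL.filter fun b => decide (a < b) && (bilN a b == 0)).map fun b => (a, b)

/-- The class of a product of three orthogonal transvections. -/
def tag3 (a b c : ℕ) : ℕ := bif a ^^^ b ^^^ c == 0 then 2 else 3

/-- The involutions with their classes. -/
def invT : List (ℕ × ℕ) :=
  nzL.map (fun a => (tvC a, 0)) ++ pairT.map (fun p => (mulC (tvC p.1) (tvC p.2), 1)) ++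
    pairT.flatMap fun p =>
      (nzL.filter fun c => decide (p.2 < c) && (bilN p.1 c == 0) && (bilN p.2 c == 0)).map fun c =>
        (mulC (mulC (tvC p.1) (tvC p.2)) (tvC c), tag3 p.1 p.2 c)

/-- The involutions. -/
def invL : List ℕ := invT.map Prod.fst

theorem invT_ok : (invT.all fun p => clsC p.1 == p.2 && mulC p.1 p.1 == oneC) = true := by decide +kernel

theorem clsC_one : clsC oneC = 4 := by decide +kernel

theorem bilN_eq : ∀ a b : Fin 64, (bilN a.val b.val == 0) = !bil a b := by decide +kernel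

theorem val_mem_nzL : ∀ a : Fin 64, a ≠ 0 → a.val ∈ nzL := by decide +kernel

theorem comm_of_bil {a b : Fin 64} (h : bil a b = false) : Commute (tvS a) (tvS b) := by
  have := tvS_conj (tvS a) b
  rw [show ((tvS a : S) : Equiv.Perm (Fin 64)) b = b from tv_fix h] at this
  exact mul_inv_eq_iff_eq_mul.1 this

theorem bil_of_apply (g : S) {x y : Fin 64} (h : bil x y = false) :
    bil ((g : Equiv.Perm (Fin 64)) x) ((g : Equiv.Perm (Fin 64)) y) = false := by
  refine tvS_comm_bil ?_
  have := (comm_of_bil h).map (MulAut.conj g).toMonoidHom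
  simpa only [MulEquiv.coe_toMonoidHom, MulAut.conj_apply, tvS_conj] using this

theorem apply_ne_zero (g : S) {x : Fin 64} (h : x ≠ 0) : (g : Equiv.Perm (Fin 64)) x ≠ 0 := fun e =>
  h ((Equiv.injective _) (e.trans (S_zero g).symm))

theorem one_mem_invT {a : Fin 64} (ha : a ≠ 0) : (codeS (tvS a), 0) ∈ invT := by
  refine List.mem_append_left _ (List.mem_append_left _ (List.mem_map.2 ⟨a.val, val_mem_nzL a ha, ?_⟩))
  rw [codeS_tvS]

theorem mem_pairT {a b : Fin 64} (ha : a ≠ 0) (hb : b ≠ 0) (h : a.val < b.val) (o : bil a b = false) :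
    (a.val, b.val) ∈ pairT :=
  List.mem_flatMap.2 ⟨a.val, val_mem_nzL a ha, List.mem_map.2 ⟨b.val,
    List.mem_filter.2 ⟨val_mem_nzL b hb, by simp [h, bilN_eq, o]⟩, rfl⟩⟩

theorem two_mem_invT {a b : Fin 64} (ha : a ≠ 0) (hb : b ≠ 0) (h : a ≠ b) (o : bil a b = false) :
    (codeS (tvS a * tvS b), 1) ∈ invT := by
  wlog hlt : a.val < b.val generalizing a b
  · rw [(comm_of_bil o).eq]
    exact this hb ha h.symm (by rw [bil_symm]; exact o)
      (lt_of_le_of_ne (not_lt.1 hlt) fun e => h (Fin.ext e.symm))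
  refine List.mem_append_left _ (List.mem_append_right _ (List.mem_map.2 ⟨_, mem_pairT ha hb hlt o, ?_⟩))
  rw [codeS_mul, codeS_tvS, codeS_tvS]

theorem three_mem_invT {a b c : Fin 64} (ha : a ≠ 0) (hb : b ≠ 0) (hc : c ≠ 0) (hab : a ≠ b)
    (hac : a ≠ c) (hbc : b ≠ c) (oab : bil a b = false) (oac : bil a c = false) (obc : bil b c = false) :
    (codeS (tvS a * tvS b * tvS c), tag3 a.val b.val c.val) ∈ invT := by
  have key : ∀ a b c : Fin 64, a ≠ 0 → b ≠ 0 → c ≠ 0 → bil a b = false → bil a c = false →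
      bil b c = false → a.val < b.val → b.val < c.val →
      (codeS (tvS a * tvS b * tvS c), tag3 a.val b.val c.val) ∈ invT := by
    intro a b c ha hb hc oab oac obc h1 h2
    refine List.mem_append_right _ (List.mem_flatMap.2 ⟨_, mem_pairT ha hb h1 oab, List.mem_map.2 ⟨c.val,
      List.mem_filter.2 ⟨val_mem_nzL c hc, by simp [h2, bilN_eq, oac, obc]⟩, ?_⟩⟩)
    rw [codeS_mul, codeS_mul, codeS_tvS, codeS_tvS, codeS_tvS]
  have cab := (comm_of_bil oab).eq
  have cac := (comm_of_bil oac).eq
  have cbc := (comm_of_bil obc).eq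
  have t1 : tag3 b.val a.val c.val = tag3 a.val b.val c.val := by rw [tag3, tag3, Nat.xor_comm b.val]
  have t2 : tag3 a.val c.val b.val = tag3 a.val b.val c.val := by
    rw [tag3, tag3, Nat.xor_assoc, Nat.xor_comm c.val, ← Nat.xor_assoc]
  have sba : bil b a = false := by rw [bil_symm]; exact oab
  have sca : bil c a = false := by rw [bil_symm]; exact oac
  have scb : bil c b = false := by rw [bil_symm]; exact obc
  rcases lt_or_gt_of_ne (Fin.val_ne_of_ne hab) with h1 | h1 <;>
    rcases lt_or_gt_of_ne (Fin.val_ne_of_ne hbc) with h2 | h2 <;>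
    rcases lt_or_gt_of_ne (Fin.val_ne_of_ne hac) with h3 | h3
  · exact key a b c ha hb hc oab oac obc h1 h2
  · omega
  · have := key a c b ha hc hb oac oab scb h3 h2
    rwa [t2, show tvS a * tvS c * tvS b = tvS a * tvS b * tvS c by rw [mul_assoc, ← cbc, ← mul_assoc]] at this
  · have := key c a b hc ha hb sca scb oab h3 h1
    rwa [show tag3 c.val a.val b.val = tag3 a.val b.val c.val by
        rw [tag3, tag3, Nat.xor_assoc, Nat.xor_comm c.val],
      show tvS c * tvS a * tvS b = tvS a * tvS b * tvS c by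
        rw [mul_assoc (tvS a), cbc, ← mul_assoc, cac]] at this
  · have := key b a c hb ha hc sba obc oac h1 h3
    rwa [t1, show tvS b * tvS a * tvS c = tvS a * tvS b * tvS c by rw [cab]] at this
  · have := key b c a hb hc ha obc sba sca h2 h3
    rwa [show tag3 b.val c.val a.val = tag3 a.val b.val c.val by
        rw [tag3, tag3, Nat.xor_comm _ a.val, ← Nat.xor_assoc],
      show tvS b * tvS c * tvS a = tvS a * tvS b * tvS c by
        rw [mul_assoc, ← cac, ← mul_assoc, ← cab]] at this
  · omega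
  · have := key c b a hc hb ha scb sca sba h2 h1
    rwa [show tag3 c.val b.val a.val = tag3 a.val b.val c.val by
        rw [tag3, tag3, Nat.xor_comm _ a.val, Nat.xor_comm c.val, ← Nat.xor_assoc],
      show tvS c * tvS b * tvS a = tvS a * tvS b * tvS c by
        rw [← cbc, mul_assoc, ← cac, ← mul_assoc, ← cab]] at this

/-- A conjugate of a representative is in the list, with its class. -/
theorem mem_invT_conj (g : S) (i : Fin 4) : (codeS (g * rep i * g⁻¹), i.val) ∈ invT := by
  have e8 := tvS_conj g 8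
  have e16 := tvS_conj g 16
  have e24 := tvS_conj g 24
  have e20 := tvS_conj g 20
  have h8 : (8 : Fin 64) ≠ 0 := by decide
  have h16 : (16 : Fin 64) ≠ 0 := by decide
  have hi := Equiv.injective (g : Equiv.Perm (Fin 64))
  have h24 : (g : Equiv.Perm (Fin 64)) 24 =
      vadd ((g : Equiv.Perm (Fin 64)) 8) ((g : Equiv.Perm (Fin 64)) 16) := S_linear g 8 16
  fin_cases i
  · change (codeS (g * tvS 8 * g⁻¹), 0) ∈ invT
    rw [e8]
    exact one_mem_invT (apply_ne_zero g h8)
  · change (codeS (g * (tvS 8 * tvS 16) * g⁻¹), 1) ∈ invT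
    rw [conj_mul.symm, e8, e16]
    exact two_mem_invT (apply_ne_zero g h8) (apply_ne_zero g h16) (hi.ne (by decide))
      (bil_of_apply g (by decide))
  · change (codeS (g * (tvS 8 * tvS 16 * tvS 24) * g⁻¹), 2) ∈ invT
    rw [conj_mul.symm, conj_mul.symm, e8, e16, e24]
    have := three_mem_invT (apply_ne_zero g h8) (apply_ne_zero g h16)
      (apply_ne_zero g (x := 24) (by decide)) (hi.ne (by decide)) (hi.ne (by decide)) (hi.ne (by decide))
      (bil_of_apply g (by decide)) (bil_of_apply g (x := 8) (y := 24) (by decide))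
      (bil_of_apply g (x := 16) (y := 24) (by decide))
    rwa [h24, tag3, vadd_val, Nat.xor_self, beq_self_eq_true, cond_true, ← h24] at this
  · change (codeS (g * (tvS 8 * tvS 16 * tvS 20) * g⁻¹), 3) ∈ invT
    rw [conj_mul.symm, conj_mul.symm, e8, e16, e20]
    have := three_mem_invT (apply_ne_zero g h8) (apply_ne_zero g h16)
      (apply_ne_zero g (x := 20) (by decide)) (hi.ne (by decide)) (hi.ne (by decide)) (hi.ne (by decide))
      (bil_of_apply g (by decide)) (bil_of_apply g (x := 8) (y := 20) (by decide))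
      (bil_of_apply g (x := 16) (y := 20) (by decide))
    have hne : (((g : Equiv.Perm (Fin 64)) 8).val ^^^ ((g : Equiv.Perm (Fin 64)) 16).val ^^^
        ((g : Equiv.Perm (Fin 64)) 20).val == 0) = false := by
      rw [beq_eq_false_iff_ne, ← vadd_val, ← h24, Ne, xor_eq_zero_iff, ← Fin.ext_iff]
      exact hi.ne (by decide)
    rwa [tag3, hne, cond_false] at this

/-- The class of a conjugate of a representative. -/
theorem clsC_conj_rep (g : S) (i : Fin 4) : clsC (codeS (g * rep i * g⁻¹)) = i.val := by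
  have := List.all_eq_true.1 invT_ok _ (mem_invT_conj g i)
  rw [Bool.and_eq_true, beq_iff_eq, beq_iff_eq] at this
  exact this.1

/-- An involution is a conjugate of the representative of its class. -/
theorem exists_rep_cls {s : S} (h : s * s = 1) (h1 : s ≠ 1) :
    ∃ g : S, ∃ i : Fin 4, i.val = clsC (codeS s) ∧ g * rep i * g⁻¹ = s := by
  obtain ⟨g, i, e⟩ := exists_conj_rep s h h1
  have e' : g⁻¹ * rep i * g⁻¹⁻¹ = s := by rw [← e]; group
  exact ⟨g⁻¹, i, by rw [← e']; exact (clsC_conj_rep _ i).symm, e'⟩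

theorem clsC_lt {s : S} (h : s * s = 1) (h1 : s ≠ 1) : clsC (codeS s) < 4 := by
  obtain ⟨g, i, e, -⟩ := exists_rep_cls h h1
  omega

/-- The classes are invariant under conjugation. -/
theorem clsC_conj (g : S) {s : S} (h : s * s = 1) : clsC (codeS (g * s * g⁻¹)) = clsC (codeS s) := by
  by_cases h1 : s = 1
  · rw [h1, mul_one, mul_inv_cancel]
  obtain ⟨k, i, e, e'⟩ := exists_rep_cls h h1
  rw [← e, ← e', show g * (k * rep i * k⁻¹) * g⁻¹ = g * k * rep i * (g * k)⁻¹ by group]
  exact clsC_conj_rep _ i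

/-- All involutions are in the list. -/
theorem mem_invL {s : S} (h : s * s = 1) (h1 : s ≠ 1) : codeS s ∈ invL := by
  obtain ⟨g, i, -, e⟩ := exists_rep_cls h h1
  exact List.mem_map.2 ⟨_, mem_invT_conj g i, by rw [e]⟩

/-- All members of the list are involutions. -/
theorem exists_of_mem_invL {c : ℕ} (hc : c ∈ invL) : ∃ s : S, codeS s = c ∧ s * s = 1 := by
  obtain ⟨⟨c, k⟩, hp, rfl⟩ := List.mem_map.1 hc
  have hex : ∃ s : S, codeS s = c := by
    simp only [invT, List.mem_append, List.mem_map, List.mem_flatMap, List.mem_filter, pairT, nzL,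
      List.mem_range'_1, Prod.mk.injEq, Bool.and_eq_true] at hp
    rcases hp with (⟨a, ha, rfl, -⟩ | ⟨_, ⟨a, ha, b, ⟨hb, -⟩, rfl⟩, rfl, -⟩) |
      ⟨_, ⟨a, ha, b, ⟨hb, -⟩, rfl⟩, c', ⟨hc', -⟩, rfl, -⟩
    · exact ⟨tvS ⟨a, by omega⟩, codeS_tvS _⟩
    · exact ⟨tvS ⟨a, by omega⟩ * tvS ⟨b, by omega⟩, by rw [codeS_mul, codeS_tvS, codeS_tvS]⟩
    · exact ⟨tvS ⟨a, by omega⟩ * tvS ⟨b, by omega⟩ * tvS ⟨c', by omega⟩,
        by rw [codeS_mul, codeS_mul, codeS_tvS, codeS_tvS, codeS_tvS]⟩
  obtain ⟨s, hs⟩ := hex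
  refine ⟨s, hs, codeS_injective ?_⟩
  have := List.all_eq_true.1 invT_ok _ hp
  rw [Bool.and_eq_true, beq_iff_eq, beq_iff_eq] at this
  rw [codeS_mul, codeS_one, hs]
  exact this.2

end Cfsg.Agent.SpThreeCent.SixEnd
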