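import Mathlib

/-!
# `Sp₆(2)` as a group of permutations of the 64 vectors

Bit `k < 3` of a number below 64 is the coordinate `inl k`, bit `3 + k` the coordinate `inr k`.
-/

set_option autoImplicit false
set_option maxRecDepth 100000

namespace Cfsg.Agent.SpThreeCent.SixEnd

/-- The parity of a three bit number. -/
def par3 (n : ℕ) : Bool := (n.testBit 0 ^^ n.testBit 1) ^^ n.testBit 2

/-- The symplectic form. -/
def bil (x y : Fin 64) : Bool := par3 (x.val % 8 &&& y.val / 8) ^^ par3 (y.val % 8 &&& x.val / 8)

/-- The sum of two vectors. -/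
def vadd (x y : Fin 64) : Fin 64 := ⟨(x.val ^^^ y.val) % 64, Nat.mod_lt _ (by norm_num)⟩

/-- The action of a transvection. -/
def tvFun (x y : Fin 64) : Fin 64 := if bil x y then vadd y x else y

theorem tvFun_invol : ∀ x y : Fin 64, tvFun x (tvFun x y) = y := by decide +kernel

/-- The transvection with centre `x`. -/
def tv (x : Fin 64) : Equiv.Perm (Fin 64) where
  toFun := tvFun x
  invFun := tvFun x
  left_inv := tvFun_invol x
  right_inv := tvFun_invol x

/-- The centres of the seven transvections with the relations of the diagram of type `E₇`. -/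
def nodeVec : Fin 7 → Fin 64 := ![32, 16, 4, 34, 24, 1, 8]

/-- `Sp₆(2)`. -/
def S : Subgroup (Equiv.Perm (Fin 64)) := Subgroup.closure (Set.range fun i => tv (nodeVec i))

theorem node_mem (i : Fin 7) : tv (nodeVec i) ∈ S := Subgroup.subset_closure ⟨i, rfl⟩

/-- The seven generators. -/
def node (i : Fin 7) : S := ⟨tv (nodeVec i), node_mem i⟩

end Cfsg.Agent.SpThreeCent.SixEnd
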