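import Cfsg.Agent.Lib.SpThreeCent.SixEnd.Engine

/-!
# The endgame: the chain of centralizers

The centralizers of a transvection with an involution of the third class, of the transvections, of the
involutions of the second and of the third class lie inside; so everything lies inside.
-/

set_option autoImplicit false
set_option maxRecDepth 100000

namespace Cfsg.Agent.SpThreeCent.SixEnd

universe u

/-- A class occurs in the list. -/
def hasC (k : ℕ) (U : List ℕ) : Bool := U.any fun a => clsC a == k

/-- Two commuting transvections occur. -/
def twoTr (U : List ℕ) : Bool :=
  U.any fun a => clsC a == 0 && U.any fun b => clsC b == 0 && !(a == b) && commF a b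

/-- A transvection and an involution of the third class with a product of the second occur. -/
def sixTr (U : List ℕ) : Bool :=
  U.any fun a => clsC a == 0 && U.any fun b => clsC b == 2 && commF a b && clsC (mulF a b) == 1

/-- Closed after the first step. -/
def clC (U : List ℕ) : Bool := twoTr U || sixTr U

/-- Closed after the second step. -/
def clD (U : List ℕ) : Bool := clC U || hasC 0 U

/-- Closed after the third step. -/
def clR (U : List ℕ) : Bool := clD U || hasC 1 U

/-- Closed after the fourth step. -/
def clE (U : List ℕ) : Bool := clR U || hasC 2 U

/-- No finished stages. -/
def noBase (_ : List (ℕ × ℕ)) : Bool := false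

/-- The two stages below the last one. -/
def baseE (N : List (ℕ × ℕ)) : Bool :=
  match N with
  | [(a, p), (b, q)] => a == oneC && clsC b == 3 && p == 0 && (q == 0 || q == 1)
  | _ => false

/-- The involutions commuting with the list. -/
def rootY (U : List ℕ) : List ℕ := invLit.filter fun x => U.all fun u => commF u x

/-- The check at the top of a tree. -/
def stageOk (cl : List ℕ → Bool) (base : List (ℕ × ℕ) → Bool) (d : ℕ) (t : Tr) (N : List (ℕ × ℕ)) : Bool :=
  (N.map Prod.fst).contains oneC && (N.all fun p => p.1 == oneC || invLit.contains p.1) &&
    check cl base d t (rootY (N.map Prod.fst)) N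

/-- The classes of the first stage. -/
def stB : List (ℕ × ℕ) := [(34630287489, 1), (34630287497, 3), (34630288017, 3), (34630288025, 1)]

/-- The classes of the second stage. -/
def stC : List (ℕ × ℕ) := [(34630287489, 0), (34630287497, 1)]

/-- The classes of the third stage. -/
def stD : List (ℕ × ℕ) := [(34630287489, 1), (34630288521, 3)]

/-- The classes of the fourth stage. -/
def stR : List (ℕ × ℕ) := [(34630287489, 0), (34630288017, 3)]

/-- The classes of the last stage. -/
def stE : List (ℕ × ℕ) := [(34630287489, 0)]

/-- The auxiliary elements for the stage B. -/
def treeB : Tr :=
  .mk 38925254785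
    [(43220222093, .mk 56105125249
    [(51810156929, .mk 38925254785 []),
      (51810157465, .mk 38925254785 []),
      (60400091533, .mk 38925254785 []),
      (60400092053, .mk 38925254785 [])]),
      (51810157953, .mk 38925254785
    [(51810157953, .mk 34630288513 [])]),
      (60400093085, .mk 38925254785
    [(60400093085, .mk 34630288513 [])]),
      (43220223117, .mk 38925254785
    [(43220223117, .mk 34630288513 [])]),
      (43220223637, .mk 38925254785
    [(43220223637, .mk 34630288513 [])]),
      (51810156929, .mk 38925254785
    [(51810156929, .mk 34630288513 [])]),
      (60400092061, .mk 38925254785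
    [(60400092061, .mk 34630288513 [])]),
      (51810157465, .mk 38925254785
    [(51810157465, .mk 34630288513 [])]),
      (60400091525, .mk 38925254785
    [(60400091525, .mk 34630288513 [])])]

/-- The auxiliary elements for the stage C. -/
def treeC : Tr :=
  .mk 34764505227
    [(39059472523, .mk 34663841921 []),
      (41307619467, .mk 34663841921 []),
      (47649407111, .mk 34663841921 []),
      (49763336325, .mk 34663841921 []),
      (34764636299, .mk 34663841921 []),
      (35335069835, .mk 34663841921 []),
      (4699848843, .mk 34663841921 []),
      (7484874891, .mk 34663841921 []),
      (34764669091, .mk 34663841921 []),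
      (35200884897, .mk 34663841921 []),
      (13289816231, .mk 34663841921 []),
      (15940624549, .mk 34663841921 [])]

/-- The auxiliary elements for the stage D. -/
def treeD : Tr :=
  .mk 34630289049
    [(43220223637, .mk 38925254785 []),
      (51810157465, .mk 38925254785 []),
      (51810156937, .mk 47515189389 []),
      (43220223109, .mk 56105125249 []),
      (34630321841, .mk 34630418561 []),
      (34630355609, .mk 34630418561 []),
      (43220256437, .mk 4565631105 []),
      (51810225049, .mk 4565631105 []),
      (34630355081, .mk 34630451369 []),
      (51810224521, .mk 13155598509 []),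
      (34630321313, .mk 34630487169 []),
      (43220255909, .mk 21745569153 [])]

/-- The auxiliary elements for the stage R. -/
def treeR : Tr :=
  .mk 34630287497 []

end Cfsg.Agent.SpThreeCent.SixEnd
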